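import Cfsg.Agent.Lib.Homogeneous.Unitary.Cosets

/-!
The centralizer of a rotation of order three is an inverted abelian subgroup containing the centralizers of its
non-trivial elements, and its order determines the order of the group.
-/

set_option autoImplicit false

namespace CfsgLib.Homogeneous.Unitary

open Cfsg Subgroup

universe u

variable {G : Type u} [Group G] [Finite G]

/-- A conjugation by an involution without non-trivial fixed points inverts. -/
theorem inv_of_fpf {O : Subgroup G} {u : G} (hu : u * u = 1) (hn : ∀ o ∈ O, u * o * u⁻¹ ∈ O)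
    (hfix : ∀ o ∈ O, u * o = o * u → o = 1) :
    (∀ o ∈ O, u * o * u⁻¹ = o⁻¹) ∧ ∀ a ∈ O, ∀ b ∈ O, a * b = b * a := by
  have huinv : u⁻¹ = u := inv_eq_of_mul_eq_one_right hu
  let F : O → O := fun o => ⟨(o : G)⁻¹ * (u * o * u⁻¹), mul_mem (inv_mem o.2) (hn _ o.2)⟩
  have hF : Function.Injective F := fun a b e => by
    have e1 : (a : G)⁻¹ * (u * a * u⁻¹) = (b : G)⁻¹ * (u * b * u⁻¹) := congrArg Subtype.val e
    have hc : u * ((b : G) * (a : G)⁻¹) = (b : G) * (a : G)⁻¹ * u := by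
      refine mul_inv_eq_iff_eq_mul.mp ?_
      calc u * ((b : G) * (a : G)⁻¹) * u⁻¹ = b * ((b : G)⁻¹ * (u * b * u⁻¹)) * (u * a * u⁻¹)⁻¹ := by group
        _ = b * (a : G)⁻¹ := by rw [← e1]; group
    exact Subtype.ext (mul_inv_eq_one.mp (hfix _ (mul_mem b.2 (O.inv_mem a.2)) hc)).symm
  have hinv : ∀ o ∈ O, u * o * u⁻¹ = o⁻¹ := by
    intro o ho
    obtain ⟨⟨a, ha⟩, e⟩ := (Finite.injective_iff_surjective.mp hF) ⟨o, ho⟩
    have e1 : a⁻¹ * (u * a * u⁻¹) = o := congrArg Subtype.val e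
    rw [← e1, huinv]
    calc u * (a⁻¹ * (u * a * u)) * u = u * a⁻¹ * u * a * (u * u) := by group
      _ = (a⁻¹ * (u * a * u))⁻¹ := by rw [hu]; simp only [mul_inv_rev, inv_inv, huinv]; group
  refine ⟨hinv, fun a ha b hb => ?_⟩
  have e := hinv _ (mul_mem ha hb)
  rw [show u * (a * b) * u⁻¹ = u * a * u⁻¹ * (u * b * u⁻¹) by group, hinv a ha, hinv b hb, ← mul_inv_rev,
    inv_inj] at e
  exact e.symm

namespace Ctx

variable (c : Ctx G) [IsSimpleGroup G]

local notation "𝐒" => (Sylow.toSubgroup (Ctx.S c))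
local notation "𝐕" => Ctx.V c
local notation "NV" => Subgroup.normalizer ((Ctx.V c : Subgroup G) : Set G)
local notation "CV" => Subgroup.centralizer ((Ctx.V c : Subgroup G) : Set G)
local notation "NS" => Subgroup.normalizer (((Sylow.toSubgroup (Ctx.S c)) : Subgroup G) : Set G)

include c in
/-- An involution centralizes no non-trivial element of odd order. -/
theorem no_odd_cent {u y : G} (hu : u * u = 1) (hu1 : u ≠ 1) (hc : u * y = y * u) (hy : Odd (orderOf y)) : y = 1 := by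
  obtain ⟨t, ht, ht1⟩ := c.exists_ne_one
  obtain ⟨g, rfl⟩ := c.invol_conj ht ht1 hu hu1
  have h1 : g⁻¹ * y * g ∈ 𝐒 := by
    refine (c.cent_eq ht ht1).le (Subgroup.mem_centralizer_singleton_iff.mpr ?_)
    calc g⁻¹ * y * g * t = g⁻¹ * (y * (g * t * g⁻¹)) * g := by group
      _ = t * (g⁻¹ * y * g) := by rw [← hc]; group
  have h2 : g⁻¹ * y * g = 1 := c.eq_one_of_mem_S h1 (by
    have e : orderOf (g⁻¹ * y * g) = orderOf y := by
      simpa using MulEquiv.orderOf_eq (MulAut.conj g⁻¹) y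
    rw [e]; exact hy)
  calc y = g * (g⁻¹ * y * g) * g⁻¹ := by group
    _ = 1 := by rw [h2]; group

/-- Every element of order three of the normalizer of the centre is conjugate into a rotation. -/
theorem three_conj {d x : G} (hd : c.Rot d) (hx : x ∈ NV) (ho : orderOf x = 3) :
    ∃ m ∈ NV, m * x * m⁻¹ ∈ zpowers d := by
  haveI := Fact.mk Nat.prime_three
  set T := (zpowers d).subgroupOf NV
  have hcT : Nat.card T = 3 := by
    rw [Nat.card_congr (Subgroup.subgroupOfEquivOfLe (zpowers_le.mpr hd.mem)).toEquiv, Nat.card_zpowers,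
      c.rot_order hd]
  have hp : IsPGroup 3 T := IsPGroup.of_card (n := 1) (by rw [hcT, pow_one])
  have hidx : ¬ 3 ∣ T.index := fun h => by
    have := T.card_mul_index
    rw [hcT, c.card_NV] at this
    omega
  obtain ⟨P, hP⟩ := ((IsPGroup.of_card (n := 1) (by rw [Nat.card_zpowers, ho, pow_one]) :
    IsPGroup 3 (zpowers x)).comap_subtype (K := NV)).exists_le_sylow
  obtain ⟨⟨m, hm⟩, hmP⟩ := MulAction.exists_smul_eq NV P (hp.toSylow hidx)
  refine ⟨m, hm, ?_⟩
  have h : (⟨m, hm⟩ : NV) * ⟨x, hx⟩ * (⟨m, hm⟩ : NV)⁻¹ ∈ (hp.toSylow hidx : Subgroup NV) := by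
    rw [← hmP, Sylow.coe_subgroup_smul]; exact ⟨_, hP (mem_zpowers x), rfl⟩
  exact h

/-- A rotation is self-normalizing in the normalizer of the centre. -/
theorem rot_normalizer {d y : G} (hdS : d ∈ NS) (hd : c.Rot d) (hy : y ∈ NV) (h : y * d * y⁻¹ ∈ zpowers d) :
    y ∈ zpowers d := by
  obtain ⟨z, hz, i, -, rfl⟩ := hd.decomp c hy
  rw [c.CV_eq] at hz
  have hzd : z * d * z⁻¹ ∈ zpowers d := by
    have h1 := mul_mem (mul_mem (inv_mem (npow_mem_zpowers d i)) h) (npow_mem_zpowers d i)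
    rwa [show (d ^ i)⁻¹ * (d ^ i * z * d * (d ^ i * z)⁻¹) * d ^ i = z * d * z⁻¹ by group] at h1
  have hc : z * d * z⁻¹ * d⁻¹ = 1 := by
    refine c.eq_one_of_mem_S ?_ ?_
    · rw [show z * d * z⁻¹ * d⁻¹ = z * (d * z⁻¹ * d⁻¹) by group]
      exact 𝐒.mul_mem hz (c.conj_S hdS (𝐒.inv_mem hz))
    · have h2 : z * d * z⁻¹ * d⁻¹ ∈ zpowers d := mul_mem hzd (inv_mem (mem_zpowers d))
      exact hd.odd.of_dvd_nat (orderOf_dvd_of_mem_zpowers h2)
  have hzd' : d * z * d⁻¹ = z := by
    rw [mul_inv_eq_one, mul_inv_eq_iff_eq_mul] at hc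
    rw [← hc, mul_inv_cancel_right]
  have hzV : z ∈ 𝐕 := c.fixmod hd hz (by rw [hzd', inv_mul_cancel]; exact one_mem _)
  have hz1 : z = 1 := by_contra fun e => hd.no_fix c hzV e hzd'
  rw [hz1, mul_one]; exact npow_mem_zpowers d i

include c in
/-- The subgroup used for the count. -/
theorem exists_cc : ∃ (K : Subgroup G) (m n : ℕ), Nat.card G = 192 * n ∧ n + 63 = 128 * m ∧
    Nat.card K = 3 * m ∧ (∀ a ∈ K, ∀ b ∈ K, a * b = b * a) ∧
    (∀ y ∈ K, y ≠ 1 → Subgroup.centralizer ({y} : Set G) = K) ∧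
    ∃ u, u * u = 1 ∧ u ≠ 1 ∧ u ∈ Subgroup.normalizer (K : Set G) := by
  classical
  obtain ⟨d, hdS, hd⟩ := c.exists_rot
  have hod := c.rot_order hd
  set q0 : G ⧸ NV := ((1 : G) : G ⧸ NV)
  have hbase : ∀ {g : G}, (g : G ⧸ NV) = q0 ↔ g ∈ NV := fun {g} => by
    rw [QuotientGroup.eq, mul_one, inv_mem_iff]
  have hsm : ∀ m g : G, m • (g : G ⧸ NV) = ((m * g : G) : G ⧸ NV) := fun m g => rfl
  have hfixd : d • q0 = q0 := by rw [hsm, mul_one]; exact hbase.mpr hd.mem
  -- stabilizers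
  have hstab : ∀ q : G ⧸ NV, q ≠ q0 → ∃ u : G, u * u = 1 ∧ u ≠ 1 ∧ q = (u : G ⧸ NV) ∧ Nat.card (c.D u) = 3 ∧
      (∀ x ∈ c.D u, u * x * u⁻¹ = x⁻¹) ∧ ∀ m, m ∈ NV → (m • q = q ↔ m ∈ c.D u) := by
    intro q hq
    obtain ⟨g, rfl⟩ := QuotientGroup.mk_surjective q
    obtain ⟨u, hu, huN, hgu, hcard, hinv⟩ := c.coset_invol fun h => hq (hbase.mpr h)
    refine ⟨u, hu, fun e => huN (e ▸ one_mem _), QuotientGroup.eq.mpr hgu, hcard, hinv, fun m hm => ?_⟩
    rw [QuotientGroup.eq.mpr hgu, hsm, QuotientGroup.eq]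
    constructor
    · intro h
      refine ⟨hm, ?_⟩
      have h' := inv_mem h
      rw [mul_inv_rev, inv_inv, inv_eq_of_mul_eq_one_right hu] at h'
      show u * m * u⁻¹ ∈ NV
      rw [inv_eq_of_mul_eq_one_right hu, mul_assoc]; exact h'
    · intro h
      have h' : u * m * u⁻¹ ∈ NV := h.2
      have h'' := inv_mem h'
      rw [mul_inv_rev, mul_inv_rev, inv_inv] at h''
      rw [mul_inv_rev, mul_assoc]
      convert h'' using 1
      rw [inv_eq_of_mul_eq_one_right hu]
  -- a fixed coset has stabilizer the rotation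
  have hfixed : ∀ q : G ⧸ NV, q ≠ q0 → d • q = q → ∀ m ∈ NV, m • q = q → m ∈ zpowers d := by
    intro q hq hdq m hm hmq
    obtain ⟨u, -, -, -, hcard, -, hst⟩ := hstab q hq
    have hle : zpowers d ≤ c.D u := zpowers_le.mpr ((hst d hd.mem).mp hdq)
    rw [eq_of_le_of_card_ge hle (by rw [Nat.card_zpowers, hod, hcard])]
    exact (hst m hm).mp hmq
  -- the cosets, counted through the fixed ones
  set DN := (zpowers d).subgroupOf NV
  let X := {q : G ⧸ NV // d • q = q ∧ q ≠ q0}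
  let Y := {q : G ⧸ NV // q ≠ q0}
  have hmv : ∀ {m : G}, m ∈ NV → ∀ {q : G ⧸ NV}, q ≠ q0 → m • q ≠ q0 := fun {m} hm {q} hq e => hq (by
    have e2 : m⁻¹ • (m • q) = m⁻¹ • q0 := congrArg _ e
    rw [inv_smul_smul, hsm, mul_one] at e2
    rw [e2]; exact hbase.mpr (inv_mem hm))
  let F : (NV ⧸ DN) × X → Y := fun p => ⟨(p.1.out : G) • (p.2 : G ⧸ NV), hmv p.1.out.2 p.2.2.2⟩
  have hF : Function.Bijective F := by
    refine ⟨?_, fun ⟨q, hq⟩ => ?_⟩
    · rintro ⟨a, q, hqd, hq⟩ ⟨b, r, hrd, hr⟩ e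
      have e1 : (a.out : G) • q = (b.out : G) • r := congrArg Subtype.val e
      set y := (b.out : G)⁻¹ * a.out with hy
      have hyN : y ∈ NV := mul_mem (inv_mem b.out.2) a.out.2
      have hyq : y • q = r := by rw [hy, mul_smul, e1, inv_smul_smul]
      have h1 : y * d * y⁻¹ ∈ zpowers d := by
        refine hfixed r hr hrd _ (mul_mem (mul_mem hyN hd.mem) (inv_mem hyN)) ?_
        rw [← hyq, mul_smul, inv_smul_smul, mul_smul, hqd]
      have hyd := c.rot_normalizer hdS hd hyN h1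
      have hab : a = b := by
        rw [← QuotientGroup.out_eq' a, ← QuotientGroup.out_eq' b, eq_comm, QuotientGroup.eq]
        show ((b.out⁻¹ * a.out : NV) : G) ∈ zpowers d
        exact hyd
      subst hab
      exact Prod.ext rfl (Subtype.ext (MulAction.injective _ e1))
    · obtain ⟨u, -, -, -, hcard, -, hst⟩ := hstab q hq
      haveI := Fact.mk Nat.prime_three
      obtain ⟨⟨x, hx⟩, hxo⟩ := exists_prime_orderOf_dvd_card' 3 (dvd_of_eq hcard.symm)
      rw [Subgroup.orderOf_mk] at hxo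
      obtain ⟨m, hm, hmx⟩ := c.three_conj hd hx.1 hxo
      have hmx1 : orderOf (m * x * m⁻¹) = 3 := by
        rw [← hxo]; exact MulEquiv.orderOf_eq (MulAut.conj m) x
      have hdm : d ∈ zpowers (m * x * m⁻¹) := by
        rw [eq_of_le_of_card_ge (zpowers_le.mpr hmx) (by rw [Nat.card_zpowers, Nat.card_zpowers, hmx1, hod])]
        exact mem_zpowers d
      have hfx : m * x * m⁻¹ ∈ MulAction.stabilizer G (m • q) := by
        rw [MulAction.mem_stabilizer_iff, ← mul_smul, inv_mul_cancel_right, mul_smul, (hst x hx.1).mpr hx]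
      have hdq : d • (m • q) = m • q := zpowers_le.mpr hfx hdm
      obtain ⟨⟨z, hz⟩, hzo⟩ := QuotientGroup.mk_out_eq_mul DN (⟨m, hm⟩⁻¹ : NV)
      refine ⟨((QuotientGroup.mk (⟨m, hm⟩⁻¹ : NV) : NV ⧸ DN), ⟨m • q, hdq, hmv hm hq⟩), Subtype.ext ?_⟩
      show (((QuotientGroup.mk (⟨m, hm⟩⁻¹ : NV) : NV ⧸ DN).out : NV) : G) • (m • q) = q
      rw [hzo]
      show (m⁻¹ * (z : G)) • (m • q) = q
      have hzfix : (z : G) • (m • q) = m • q :=
        (zpowers_le.mpr (show d ∈ MulAction.stabilizer G (m • q) from hdq)) hz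
      rw [mul_smul, hzfix, inv_smul_smul]
  -- the normalizer of the rotation is transitive on its fixed cosets
  set D1 := zpowers d
  set N1 := Subgroup.normalizer (D1 : Set G)
  set DD := D1.subgroupOf N1
  let Z := {q : G ⧸ NV // d • q = q}
  have hfixN : ∀ {y : G}, y ∈ N1 → d • (y : G ⧸ NV) = (y : G ⧸ NV) := fun {y} hy => by
    rw [hsm, QuotientGroup.eq, mul_inv_rev, mul_assoc]
    have h : y⁻¹ * d⁻¹ * y ∈ D1 := (Subgroup.mem_normalizer_iff''.mp hy _).mp (inv_mem (mem_zpowers d))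
    rw [← mul_assoc]
    exact (zpowers_le.mpr hd.mem) h
  let H : N1 ⧸ DD → Z := fun a => ⟨((a.out : G) : G ⧸ NV), hfixN a.out.2⟩
  have hH : Function.Bijective H := by
    refine ⟨fun a b e => ?_, fun ⟨q, hq⟩ => ?_⟩
    · have e1 := QuotientGroup.eq.mp (congrArg Subtype.val e)
      rw [← QuotientGroup.out_eq' a, ← QuotientGroup.out_eq' b, QuotientGroup.eq]
      show ((a.out⁻¹ * b.out : N1) : G) ∈ D1
      refine c.rot_normalizer hdS hd e1 ?_
      exact (Subgroup.mem_normalizer_iff.mp (a.out⁻¹ * b.out : N1).2 d).mp (mem_zpowers d)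
    · obtain ⟨g, rfl⟩ := QuotientGroup.mk_surjective q
      have hgd : g⁻¹ * d * g ∈ NV := by
        rw [hsm, QuotientGroup.eq, mul_inv_rev, mul_assoc] at hq
        have := inv_mem hq
        rw [mul_inv_rev, mul_inv_rev, inv_inv, inv_inv] at this
        rwa [mul_assoc] at this ⊢
      have hog : orderOf (g⁻¹ * d * g) = 3 := by
        rw [← hod]; simpa using MulEquiv.orderOf_eq (MulAut.conj g⁻¹) d
      obtain ⟨m, hm, hmd⟩ := c.three_conj hd hgd hog
      set y := g * m⁻¹ with hy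
      have hyN1 : y ∈ N1 := by
        have h2 : y⁻¹ ∈ N1 := CfsgA8C.mem_normalizer_of_le fun w hw => by
          obtain ⟨i, rfl⟩ := Subgroup.mem_zpowers_iff.mp hw
          rw [← conj_zpow]
          refine zpow_mem ?_ i
          rw [show y⁻¹ * d * y⁻¹⁻¹ = m * (g⁻¹ * d * g) * m⁻¹ by simp only [hy]; group]
          exact hmd
        exact inv_inv y ▸ inv_mem h2
      refine ⟨(QuotientGroup.mk (⟨y, hyN1⟩ : N1)), Subtype.ext ?_⟩
      obtain ⟨⟨z, hz⟩, hzo⟩ := QuotientGroup.mk_out_eq_mul DD (⟨y, hyN1⟩ : N1)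
      show (((QuotientGroup.mk (⟨y, hyN1⟩ : N1) : N1 ⧸ DD).out : N1) : G) = ((g : G) : G ⧸ NV)
      rw [hzo]
      show ((y * (z : G) : G) : G ⧸ NV) = (g : G ⧸ NV)
      rw [QuotientGroup.eq, mul_inv_rev, mul_assoc, show y⁻¹ * g = m by simp only [hy]; group]
      exact mul_mem (inv_mem (zpowers_le.mpr hd.mem hz)) hm
  -- the counts
  set n := Nat.card (G ⧸ NV) with hn
  have hG : Nat.card G = 192 * n := by
    rw [Subgroup.card_eq_card_quotient_mul_card_subgroup NV, c.card_NV, mul_comm]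
  haveI := Fintype.ofFinite (G ⧸ NV)
  have hY : Nat.card Y + 1 = n := by
    rw [hn, Nat.card_eq_fintype_card, Nat.card_eq_fintype_card, Fintype.card_subtype_compl, Fintype.card_subtype_eq]
    have : 0 < Fintype.card (G ⧸ NV) := Fintype.card_pos
    omega
  have hX : Nat.card X + 1 = Nat.card Z := by
    have e : X ≃ {z : Z // z ≠ ⟨q0, hfixd⟩} :=
      { toFun := fun x => ⟨⟨x, x.2.1⟩, fun e => x.2.2 (congrArg Subtype.val e)⟩
        invFun := fun z => ⟨(z : Z), z.1.2, fun e => z.2 (Subtype.ext e)⟩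
        left_inv := fun x => rfl
        right_inv := fun z => rfl }
    haveI := Fintype.ofFinite Z
    rw [Nat.card_congr e, Nat.card_eq_fintype_card, Nat.card_eq_fintype_card, Fintype.card_subtype_compl,
      Fintype.card_subtype_eq]
    have : 0 < Fintype.card Z := Fintype.card_pos_iff.mpr ⟨⟨q0, hfixd⟩⟩
    omega
  have h64 : Nat.card Y = 64 * Nat.card X := by
    rw [← Nat.card_eq_of_bijective F hF, Nat.card_prod]
    have e := Subgroup.card_eq_card_quotient_mul_card_subgroup DN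
    rw [c.card_NV, Nat.card_congr (Subgroup.subgroupOfEquivOfLe (zpowers_le.mpr hd.mem)).toEquiv, Nat.card_zpowers,
      hod] at e
    rw [show Nat.card (NV ⧸ DN) = 64 by omega]
  have hN1 : Nat.card N1 = 3 * Nat.card Z := by
    rw [Subgroup.card_eq_card_quotient_mul_card_subgroup DD, ← Nat.card_eq_of_bijective H hH,
      Nat.card_congr (Subgroup.subgroupOfEquivOfLe Subgroup.le_normalizer).toEquiv, Nat.card_zpowers, hod, mul_comm]
  have hn2 : 2 ≤ n := by
    by_contra h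
    have hn1 : n = 1 := by
      have : 0 < n := Nat.card_pos
      omega
    have htop : NV = ⊤ := Subgroup.index_eq_one.mp (by rw [Subgroup.index, ← hn, hn1])
    obtain ⟨v, hv, hv1⟩ := c.exists_ne_one
    rcases (Subgroup.normalizer_eq_top_iff.mp htop).eq_bot_or_eq_top with e | e
    · exact hv1 (Subgroup.mem_bot.mp (e ▸ hv))
    · have := Subgroup.card_le_of_le (le_top : 𝐒 ≤ ⊤)
      rw [← e, c.card_V, c.c64] at this
      omega
  obtain ⟨q, hqd, hq⟩ : Nonempty X := by
    rw [← not_isEmpty_iff]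
    intro hX0
    have : Nat.card X = 0 := Nat.card_of_isEmpty
    omega
  obtain ⟨u, hu, hu1, -, -, hinv, hst⟩ := hstab q hq
  have hud : u * d * u⁻¹ = d⁻¹ := hinv d ((hst d hd.mem).mp hqd)
  -- the centralizer of the rotation
  set K := Subgroup.centralizer ({d} : Set G) with hK
  have hmK : ∀ {y : G}, y ∈ K ↔ y * d = d * y := Subgroup.mem_centralizer_singleton_iff
  have hd1 : d ≠ 1 := fun e => hd.not_cent (e ▸ one_mem _)
  have hodd : ∀ y : G, y ≠ 1 → Odd (orderOf y) → Odd (Nat.card (Subgroup.centralizer ({y} : Set G))) := by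
    intro y hy1 hy
    rw [← Nat.not_even_iff_odd, even_iff_two_dvd]
    intro h2
    haveI := Fact.mk Nat.prime_two
    obtain ⟨⟨x, hx⟩, ho⟩ := exists_prime_orderOf_dvd_card' 2 h2
    rw [Subgroup.orderOf_mk] at ho
    refine hy1 (c.no_odd_cent (by rw [← pow_two, ← ho, pow_orderOf_eq_one]) (fun e => ?_)
      (Subgroup.mem_centralizer_singleton_iff.mp hx) hy)
    rw [e, orderOf_one] at ho; norm_num at ho
  have hKodd : Odd (Nat.card K) := hodd d hd1 hd.odd
  have hKN : K ≤ N1 := fun y hy => mem_normalizer_zpowers (isOfFinOrder_of_finite d)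
    (by rw [mul_inv_eq_iff_eq_mul.mpr (hmK.mp hy)]; exact mem_zpowers d)
  have huN1 : u ∈ N1 := mem_normalizer_zpowers (isOfFinOrder_of_finite d) (by rw [hud]; exact inv_mem (mem_zpowers d))
  have huK : u ∉ K := fun h => by
    have h1 := hmK.mp h
    rw [h1, mul_inv_cancel_right] at hud
    have := CfsgA8C.eq_one_of_odd_sq (x := d) (by nth_rewrite 2 [hud]; rw [mul_inv_cancel]) hd.odd
    exact hd1 this
  have h2K : Nat.card N1 = 2 * Nat.card K := by
    let T : Bool × K → N1 := fun p => ⟨(if p.1 then u else 1) * p.2, mul_mem (by split <;> [exact huN1; exact one_mem _]) (hKN p.2.2)⟩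
    have hT : Function.Bijective T := by
      refine ⟨fun ⟨i, a⟩ ⟨j, b⟩ e => ?_, fun ⟨y, hy⟩ => ?_⟩
      · have e1 : (if i then u else 1) * (a : G) = (if j then u else 1) * (b : G) := congrArg Subtype.val e
        have hij : i = j := by
          cases i <;> cases j <;> simp at e1 ⊢
          · exact huK (by rw [show u = (a : G) * (b : G)⁻¹ by rw [e1]; group]; exact mul_mem a.2 (inv_mem b.2))
          · exact huK (by rw [show u = (b : G) * (a : G)⁻¹ by rw [← e1]; group]; exact mul_mem b.2 (inv_mem a.2))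
        subst hij
        exact Prod.ext rfl (Subtype.ext (mul_left_cancel e1))
      · obtain ⟨k, hk⟩ := exists_npow ((Subgroup.mem_normalizer_iff.mp hy d).mp (mem_zpowers d))
        rw [← pow_mod_orderOf, hod] at hk
        have hk3 : k % 3 = 0 ∨ k % 3 = 1 ∨ k % 3 = 2 := by omega
        rcases hk3 with e | e | e <;> rw [e] at hk
        · rw [pow_zero] at hk
          exact absurd (conj_eq_one_iff.mp hk.symm) hd1
        · rw [pow_one] at hk
          exact ⟨(false, ⟨y, hmK.mpr (mul_inv_eq_iff_eq_mul.mp hk.symm)⟩), Subtype.ext (by simp [T])⟩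
        · have hd2 : d ^ 2 = d⁻¹ := eq_inv_of_mul_eq_one_left (by
            rw [← pow_succ, show 2 + 1 = orderOf d by rw [hod], pow_orderOf_eq_one])
          rw [hd2] at hk
          have huy : u⁻¹ * y ∈ K := hmK.mpr (mul_inv_eq_iff_eq_mul.mp (by
            calc u⁻¹ * y * d * (u⁻¹ * y)⁻¹ = u⁻¹ * (y * d * y⁻¹) * u := by group
              _ = u⁻¹ * d⁻¹ * u := by rw [← hk]
              _ = d := by rw [← hud]; group))
          exact ⟨(true, ⟨_, huy⟩), Subtype.ext (by simp [T])⟩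
    rw [← Nat.card_eq_of_bijective T hT, Nat.card_prod, Nat.card_eq_fintype_card, Fintype.card_bool]
  have hdvd : 3 ∣ Nat.card K := by
    rw [← hod, ← Subgroup.orderOf_mk d (hmK.mpr rfl : d ∈ K)]
    exact _root_.orderOf_dvd_natCard _
  obtain ⟨m, hm⟩ := hdvd
  -- fixed-point-freeness
  have hconj : ∀ y : G, u * y * u⁻¹ = y⁻¹ → ∀ o ∈ Subgroup.centralizer ({y} : Set G),
      u * o * u⁻¹ ∈ Subgroup.centralizer ({y} : Set G) := by
    intro y hy o ho
    rw [Subgroup.mem_centralizer_singleton_iff] at ho ⊢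
    have h1 : Commute (u * o * u⁻¹) (u * y * u⁻¹) := (show Commute o y from ho).map (MulAut.conj u).toMonoidHom
    rw [hy] at h1
    exact (Commute.inv_right_iff.mp h1).eq
  have hfpf : ∀ y : G, y ≠ 1 → Odd (orderOf y) → ∀ o ∈ Subgroup.centralizer ({y} : Set G), u * o = o * u → o = 1 :=
    fun y hy1 hy o ho hc => c.no_odd_cent hu hu1 hc (CfsgA8C.odd_orderOf (hodd y hy1 hy) ho)
  obtain ⟨hKinv, hKab⟩ := inv_of_fpf hu (hconj d hud) (hfpf d hd1 hd.odd)
  refine ⟨K, m, n, hG, by omega, hm, hKab, fun y hy hy1 => le_antisymm (fun o ho => ?_) (fun o ho => ?_), u, hu, hu1,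
    CfsgA8C.mem_normalizer_of_le (hconj d hud)⟩
  · have hyo : Odd (orderOf y) := CfsgA8C.odd_orderOf hKodd hy
    obtain ⟨-, hab⟩ := inv_of_fpf hu (hconj y (hKinv y hy)) (hfpf y hy1 hyo)
    exact hmK.mpr (hab o ho d (Subgroup.mem_centralizer_singleton_iff.mpr (hmK.mp hy).symm))
  · exact Subgroup.mem_centralizer_singleton_iff.mpr (hKab o ho y hy)

end Ctx

end CfsgLib.Homogeneous.Unitary
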