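import Cfsg.Agent.Lib.Homogeneous.Unitary.Nondeg
import Cfsg.Agent.Lib.Coprime

/-!
The centralizer of the centre is the Sylow subgroup: an odd core would give a cyclic subgroup of odd prime order
with trivial automizer.
-/

set_option autoImplicit false

namespace CfsgLib.Homogeneous.Unitary

open Cfsg Subgroup Module
open scoped IsMulCommutative

universe u

variable {G : Type u} [Group G] [Finite G]

/-- Two involutions of a 2-subgroup are moved together into the Sylow subgroup. -/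
theorem exists_conj_le (S : Sylow 2 G) {T : Subgroup G} (hT : IsPGroup 2 T) :
    ∃ g : G, ∀ x ∈ T, g * x * g⁻¹ ∈ (S : Subgroup G) := by
  haveI := Fact.mk Nat.prime_two
  obtain ⟨P, hP⟩ := hT.exists_le_sylow
  obtain ⟨g, hg⟩ := MulAction.exists_smul_eq G P S
  exact ⟨g, fun x hx => by rw [← hg, Sylow.coe_subgroup_smul]; exact ⟨x, hP hx, rfl⟩⟩

/-- Elements normalizing a subgroup, conjugating a Sylow subgroup. -/
theorem frattini {p : ℕ} [Fact p.Prime] {K : Subgroup G} (P : Sylow p K) {y : G}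
    (hy : y ∈ Subgroup.normalizer (K : Set G)) :
    ∃ k ∈ K, k * y ∈ Subgroup.normalizer ((P : Subgroup K).map K.subtype : Set G) := by
  set R := (P : Subgroup K).map K.subtype
  have hle : R.map (MulAut.conj y).toMonoidHom ≤ K := by
    rintro _ ⟨r, hr, rfl⟩
    exact (Subgroup.mem_normalizer_iff.mp hy r).mp (Subgroup.map_subtype_le _ hr)
  have hc : Nat.card ↥((R.map (MulAut.conj y).toMonoidHom).subgroupOf K) = p ^ (Nat.card K).factorization p := by
    rw [Nat.card_congr (Subgroup.subgroupOfEquivOfLe hle).toEquiv,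
      Subgroup.card_map_of_injective (MulAut.conj y).injective,
      Subgroup.card_map_of_injective K.subtype_injective, P.card_eq_multiplicity]
  obtain ⟨k, hk⟩ := MulAction.exists_smul_eq K (Sylow.ofCard _ hc) P
  refine ⟨k, k.2, CfsgA8C.mem_normalizer_of_le fun x hx => ?_⟩
  have hm : y * x * y⁻¹ ∈ K := hle ⟨x, hx, rfl⟩
  have h : k * ⟨y * x * y⁻¹, hm⟩ * k⁻¹ ∈ (P : Subgroup K) := by
    rw [← hk, Sylow.coe_subgroup_smul]
    exact ⟨⟨y * x * y⁻¹, hm⟩, ⟨x, hx, rfl⟩, rfl⟩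
  exact ⟨_, h, by simp [mul_assoc]⟩

theorem exists_npow {x y : G} (h : y ∈ zpowers x) : ∃ k : ℕ, x ^ k = y :=
  Submonoid.mem_powers_iff _ _ |>.mp ((isOfFinOrder_of_finite x).mem_powers_iff_mem_zpowers.mpr h)

theorem pow_conj {o x : G} {k : ℕ} (h : o * x * o⁻¹ = x ^ k) (m : ℕ) :
    o ^ m * x * (o ^ m)⁻¹ = x ^ k ^ m := by
  induction m with
  | zero => simp
  | succ m ih =>
    calc o ^ (m + 1) * x * (o ^ (m + 1))⁻¹ = o * (o ^ m * x * (o ^ m)⁻¹) * o⁻¹ := by rw [pow_succ']; group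
      _ = (o * x * o⁻¹) ^ k ^ m := by rw [ih, conj_pow]
      _ = x ^ k ^ (m + 1) := by rw [h, ← pow_mul, pow_succ']

/-- An element of order prime to `p - 1` normalizing a group of order `p` centralizes it. -/
theorem fix_of_coprime {p : ℕ} [hp : Fact p.Prime] {o x : G} (hx : orderOf x = p)
    (h : o * x * o⁻¹ ∈ zpowers x) (hc : (orderOf o).Coprime (p - 1)) : o * x * o⁻¹ = x := by
  obtain ⟨k, hk⟩ := exists_npow h
  have hk1 := hk.symm
  have e := pow_conj hk1 (orderOf o)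
  rw [pow_orderOf_eq_one, one_mul, inv_one, mul_one] at e
  have e1 : ((k ^ orderOf o : ℕ) : ZMod p) = (1 : ℕ) := by
    rw [ZMod.natCast_eq_natCast_iff, ← hx, ← pow_eq_pow_iff_modEq, ← e, pow_one]
  push_cast at e1
  have hk0 : (k : ZMod p) ≠ 0 := fun e0 => by
    rw [e0, zero_pow (orderOf_pos o).ne'] at e1
    exact zero_ne_one e1
  have e2 := ZMod.pow_card_sub_one_eq_one hk0
  have e3 : (k : ZMod p) = ((1 : ℕ) : ZMod p) := by
    have h3 : orderOf (k : ZMod p) ∣ Nat.gcd (orderOf o) (p - 1) :=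
      Nat.dvd_gcd (orderOf_dvd_of_pow_eq_one e1) (orderOf_dvd_of_pow_eq_one e2)
    rw [hc.gcd_eq_one, Nat.dvd_one, orderOf_eq_one_iff] at h3
    rw [h3, Nat.cast_one]
  rw [ZMod.natCast_eq_natCast_iff, ← hx, ← pow_eq_pow_iff_modEq, pow_one] at e3
  rw [hk1, e3]

namespace Ctx

variable (c : Ctx G)

local notation "𝐒" => (Sylow.toSubgroup (Ctx.S c))
local notation "𝐕" => Ctx.V c
local notation "NV" => Subgroup.normalizer ((Ctx.V c : Subgroup G) : Set G)
local notation "CV" => Subgroup.centralizer ((Ctx.V c : Subgroup G) : Set G)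
local notation "NS" => Subgroup.normalizer (((Sylow.toSubgroup (Ctx.S c)) : Subgroup G) : Set G)
local notation "𝐖" => CfsgA8C.core (Subgroup.centralizer ((Ctx.V c : Subgroup G) : Set G))

include c in
/-- An elementary subgroup centralized by the centre has scalar automizer. -/
theorem scalar_act {p : ℕ} [Fact p.Prime] (hp2 : p ≠ 2) {E : Subgroup G} [IsMulCommutative ↥E]
    (hexp : ∀ a ∈ E, a ^ p = 1) (hVE : 𝐕 ≤ centralizer (E : Set G)) {g x : G}
    (hg : g ∈ normalizer (E : Set G)) (hx : x ∈ E) : g * x * g⁻¹ ∈ zpowers x := by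
  haveI := Fact.mk Nat.prime_two
  letI := elemModule (p := p) hexp
  haveI : Finite (Additive ↥E) := inferInstanceAs (Finite ↥E)
  haveI : FiniteDimensional (ZMod p) (Additive ↥E) := Module.Finite.of_finite
  have hs : ∀ f ∈ autzLin p E, Lin.IsScalar f := by
    by_cases hr : p ^ 2 ∣ Nat.card ↥E
    · refine (c.hom.scalar_or_quaternion hp2 E hr).resolve_right ?_
      rintro ⟨T, hT, hTN, a, ha, -, -, ha2, -⟩
      set N := normalizer (E : Set G)
      have hVN : 𝐕 ≤ N := hVE.trans fun y hy => CfsgA8C.mem_normalizer_of_le fun z hz => by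
        rw [← Subgroup.mem_centralizer_iff.mp hy z hz, mul_inv_cancel_right]; exact hz
      obtain ⟨P, hP⟩ := (hT.comap_subtype (K := N)).exists_le_sylow
      obtain ⟨P', hP'⟩ := ((c.S.2.to_le c.V_le).comap_subtype (K := N)).exists_le_sylow
      obtain ⟨y, hy⟩ := MulAction.exists_smul_eq N P' P
      obtain ⟨g, hg⟩ := exists_conj_le c.S (P.2.map N.subtype)
      have hgy : g * (y : G) ∈ NV := c.V_conj_of_le fun v hv => by
        rw [show g * (y : G) * v * (g * (y : G))⁻¹ = g * ((y : G) * v * (y : G)⁻¹) * g⁻¹ by group]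
        refine hg _ ⟨y * ⟨v, hVN hv⟩ * y⁻¹, ?_, rfl⟩
        rw [← hy, Sylow.coe_subgroup_smul]
        exact ⟨_, hP' hv, rfl⟩
      have haV : g * (a * a) * g⁻¹ ∈ 𝐕 := by
        rw [show g * (a * a) * g⁻¹ = g * a * g⁻¹ * (g * a * g⁻¹) by group]
        exact c.sq_mem (hg a ⟨⟨a, hTN ha⟩, hP ha, rfl⟩)
      have hb : (g * (y : G))⁻¹ * (g * (a * a) * g⁻¹) * (g * y) ∈ centralizer (E : Set G) :=
        hVE ((Subgroup.mem_normalizer_iff''.mp hgy _).mp haV)
      refine ha2 (Subgroup.mem_centralizer_iff.mpr fun z hz => ?_)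
      have hz' : (y : G)⁻¹ * z * y ∈ E := (Subgroup.mem_normalizer_iff''.mp y.2 z).mp hz
      have h1 := Subgroup.mem_centralizer_iff.mp hb _ hz'
      calc z * (a * a) = (y : G) * (((y : G)⁻¹ * z * y) * ((g * (y : G))⁻¹ * (g * (a * a) * g⁻¹) * (g * y))) *
            (y : G)⁻¹ := by group
        _ = (a * a) * z := by rw [h1]; group
    · intro f _
      by_contra hf
      obtain ⟨v, hv⟩ := Lin.exists_li hf
      have h2 : Fintype.card (Fin 2) ≤ finrank (ZMod p) (Additive ↥E) :=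
        (by convert @LinearIndependent.fintype_card_le_finrank (ZMod p) (Additive ↥E) _ _ _ _ _ _ _ _ hv)
      rw [Fintype.card_fin] at h2
      exact hr (by rw [card_eq (p := p) (E := E)]; exact pow_dvd_pow p h2)
  obtain ⟨k, hk⟩ := scalar_pow (hs _ (linOf_mem ⟨g, hg⟩))
  have h := congrArg Subtype.val (hk ⟨x, hx⟩)
  rw [linOf_apply, SubmonoidClass.coe_pow] at h
  rw [show g * x * g⁻¹ = x ^ k from h]
  exact npow_mem_zpowers x k

theorem W_normal {y o : G} (hy : y ∈ NV) (ho : o ∈ 𝐖) : y * o * y⁻¹ ∈ 𝐖 := by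
  refine CfsgA8C.core_conj (fun x => ⟨fun hx => c.CV_conj hx hy, fun hx => ?_⟩) ho
  have h := c.CV_conj hx (inv_mem hy)
  simpa [mul_assoc] using h

variable [IsSimpleGroup G]

/-- The commutators of a rotation generate the Sylow subgroup modulo the centre. -/
theorem rot_cover {g : G} (hgS : g ∈ NS) (hg : c.Rot g) {s : G} (hs : s ∈ 𝐒) :
    ∃ r ∈ 𝐒, ∃ v ∈ 𝐕, s = g⁻¹ * r⁻¹ * g * r * v := by
  classical
  have hmem : ∀ r : 𝐒, g⁻¹ * (r : G)⁻¹ * g * r ∈ 𝐒 := fun r =>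
    𝐒.mul_mem ((Subgroup.mem_normalizer_iff''.mp hgS _).mp (𝐒.inv_mem r.2)) r.2
  let F : 𝐒 ⧸ Subgroup.center 𝐒 → 𝐒 ⧸ Subgroup.center 𝐒 := fun q =>
    QuotientGroup.mk (⟨_, hmem q.out⟩ : 𝐒)
  have hF : Function.Injective F := fun q q' e => by
    set r := (q.out : G) with hr
    set r' := (q'.out : G) with hr'
    have e1 : (g⁻¹ * r⁻¹ * g * r)⁻¹ * (g⁻¹ * r'⁻¹ * g * r') ∈ 𝐕 := ⟨_, QuotientGroup.eq.mp e, rfl⟩
    set d := r' * r⁻¹ with hd
    set v := r * ((g⁻¹ * r⁻¹ * g * r)⁻¹ * (g⁻¹ * r'⁻¹ * g * r')) * r⁻¹ with hv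
    have hvV : v ∈ 𝐕 := by
      rw [hv, c.V_comm e1 q.out.2, mul_inv_cancel_right]; exact e1
    have hdS : d ∈ 𝐒 := 𝐒.mul_mem q'.out.2 (𝐒.inv_mem q.out.2)
    have h1 : g⁻¹ * d * g * v = d := by simp only [hv, hd]; group
    have hdV : g⁻¹ * d * g ∈ 𝐕 := by
      refine c.fixmod hg ((Subgroup.mem_normalizer_iff''.mp hgS _).mp hdS) ?_
      rw [show (g⁻¹ * d * g)⁻¹ * (g * (g⁻¹ * d * g) * g⁻¹) = (g⁻¹ * d * g)⁻¹ * d by group]
      nth_rewrite 2 [← h1]
      rw [inv_mul_cancel_left]; exact hvV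
    have hdV' : d ∈ 𝐕 := h1 ▸ 𝐕.mul_mem hdV hvV
    rw [← QuotientGroup.out_eq' q, ← QuotientGroup.out_eq' q', QuotientGroup.eq]
    refine c.hΩ _ (Subtype.ext ?_)
    show (r⁻¹ * r') * (r⁻¹ * r') = 1
    rw [show r⁻¹ * r' * (r⁻¹ * r') = r⁻¹ * (d * d) * r by simp only [hd]; group, c.V_sq hdV']
    group
  obtain ⟨q, hq⟩ := (Finite.injective_iff_surjective.mp hF) (QuotientGroup.mk (⟨s, hs⟩ : 𝐒))
  exact ⟨_, q.out.2, _, ⟨_, QuotientGroup.eq.mp hq, rfl⟩, (mul_inv_cancel_left _ s).symm⟩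

/-- An element of odd order prime centralized by the Sylow subgroup and normalized by a rotation. -/
theorem exists_special (hW : 𝐖 ≠ ⊥) : ∃ p : ℕ, p.Prime ∧ p ≠ 2 ∧ ∃ g : G, g ∈ NS ∧ c.Rot g ∧ ∃ x ∈ 𝐖, orderOf x = p ∧
      g * x * g⁻¹ ∈ zpowers x ∧ (∀ s ∈ 𝐒, s * x = x * s) ∧
      ∀ y ∈ CV, y * x * y⁻¹ ∈ zpowers x → y * x * y⁻¹ = x := by
  haveI := Fact.mk Nat.prime_two
  have hodd : Odd (Nat.card 𝐖) := CfsgA8C.core_odd _
  set p := (Nat.card 𝐖).minFac with hpdef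
  have hcard : Nat.card 𝐖 ≠ 1 := fun h => hW (Subgroup.card_eq_one.mp h)
  have hp : p.Prime := Nat.minFac_prime hcard
  have hp2 : p ≠ 2 := fun e => by
    have := Nat.minFac_dvd (Nat.card 𝐖)
    rw [← hpdef, e] at this
    exact (Nat.not_even_iff_odd.mpr hodd) (even_iff_two_dvd.mpr this)
  haveI := Fact.mk hp
  have hSW : 𝐒 ≤ Subgroup.normalizer (𝐖 : Set G) := fun s hs =>
    CfsgA8C.mem_normalizer_of_le fun o ho => CfsgA8C.core_conj_mem (c.S_le_CV hs) ho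
  have hcop : (Nat.card 𝐒).Coprime (Nat.card 𝐖) := by
    rw [c.c64, show 64 = 2 ^ 6 by norm_num]
    exact (Nat.coprime_two_left.mpr hodd).pow_left 6
  haveI := c.S.2.isNilpotent
  obtain ⟨P, hP⟩ := CfsgLib.coprime_exists_invariant_sylow hSW hcop (Or.inl inferInstance) p
  set R := (P : Subgroup 𝐖).map (Subgroup.subtype 𝐖) with hR
  set L := NV ⊓ Subgroup.normalizer (R : Set G) with hL
  have hSL : 𝐒 ≤ L := le_inf (c.S_le_CV.trans c.CV_le_NV) hP
  -- a rotation normalizing both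
  obtain ⟨n, hnS, hn⟩ := c.exists_rot
  obtain ⟨w, hw, hwn⟩ := frattini P (CfsgA8C.mem_normalizer_of_le fun o ho => c.W_normal hn.mem ho)
  have hwC : w ∈ CV := CfsgA8C.core_le _ hw
  have hyL : w * n ∈ L := ⟨mul_mem (c.CV_le_NV hwC) hn.mem, hwn⟩
  set K := CV ⊓ Subgroup.normalizer (R : Set G)
  have hSK : 𝐒 ≤ K := le_inf c.S_le_CV hP
  set S' : Sylow 2 G := (w * n) • c.S
  have hS'K : (S' : Subgroup G) ≤ K := by
    rw [Sylow.coe_subgroup_smul]
    rintro _ ⟨s, hs, rfl⟩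
    exact ⟨c.CV_conj (c.S_le_CV hs) hyL.1, Subgroup.mul_mem _ (Subgroup.mul_mem _ hwn (hP hs)) (Subgroup.inv_mem _ hwn)⟩
  obtain ⟨⟨z, hz⟩, hzS⟩ := MulAction.exists_smul_eq K (S'.subtype hS'K) (c.S.subtype hSK)
  set y := z * (w * n) with hy
  have hyN : y ∈ NS := CfsgA8C.mem_normalizer_of_le fun s hs => by
    have hs' : w * n * s * (w * n)⁻¹ ∈ (S' : Subgroup G) := by
      rw [Sylow.coe_subgroup_smul]; exact ⟨s, hs, rfl⟩
    have h : (⟨z, hz⟩ : K) * ⟨_, hS'K hs'⟩ * (⟨z, hz⟩ : K)⁻¹ ∈ (c.S.subtype hSK : Subgroup K) := by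
      rw [← hzS, Sylow.coe_subgroup_smul]; exact ⟨_, hs', rfl⟩
    rw [show y * s * y⁻¹ = z * (w * n * s * (w * n)⁻¹) * z⁻¹ by simp only [hy]; group]
    exact h
  obtain ⟨k, m, hm, he, h2, ho⟩ := odd_part y
  set g := y ^ 2 ^ k
  have hgN : g ∈ NS := Subgroup.pow_mem _ hyN _
  have hgR : g ∈ Subgroup.normalizer (R : Set G) := Subgroup.pow_mem _ (mul_mem hz.2 hyL.2) _
  have hg : c.Rot g := ⟨c.N_S_le hgN, ho, fun hC => hn.not_cent (by
    have hy2 : y ∈ CV := CfsgA8C.of_two_odd hm he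
      (c.two_mem_CV (Subgroup.pow_mem _ (c.N_S_le hyN) m) h2) hC
    rw [show n = w⁻¹ * (z⁻¹ * y) by simp only [hy]; group]
    exact mul_mem (inv_mem hwC) (mul_mem (inv_mem hz.1) hy2))⟩
  -- the central subgroup of exponent `p`
  have hRW : R ≤ 𝐖 := Subgroup.map_subtype_le _
  let E : Subgroup G :=
    { carrier := {x | x ∈ R ∧ (∀ r ∈ R, r * x = x * r) ∧ x ^ p = 1}
      one_mem' := ⟨one_mem _, fun r _ => by rw [mul_one, one_mul], one_pow _⟩
      mul_mem' := fun {a b} ⟨ha, ha', ha''⟩ ⟨hb, hb', hb''⟩ => ⟨mul_mem ha hb,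
        fun r hr => by rw [← mul_assoc, ha' r hr, mul_assoc, hb' r hr, mul_assoc],
        by rw [(show Commute a b from hb' a ha).mul_pow, ha'', hb'', one_mul]⟩
      inv_mem' := fun {a} h => ⟨R.inv_mem h.1,
        fun r hr => (Commute.inv_right (show Commute r a from h.2.1 r hr)).eq, by rw [inv_pow, h.2.2, inv_one]⟩ }
  haveI : IsMulCommutative ↥E := ⟨⟨fun a b => Subtype.ext (b.2.2.1 a a.2.1)⟩⟩
  have hNE : ∀ {h : G}, h ∈ Subgroup.normalizer (R : Set G) → h ∈ Subgroup.normalizer (E : Set G) := fun {h} hh =>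
    CfsgA8C.mem_normalizer_of_le fun x ⟨hx, hx', hx''⟩ => ⟨(Subgroup.mem_normalizer_iff.mp hh x).mp hx,
      fun r hr => by
        have h1 := hx' _ ((Subgroup.mem_normalizer_iff''.mp hh r).mp hr)
        calc r * (h * x * h⁻¹) = h * ((h⁻¹ * r * h) * x) * h⁻¹ := by group
          _ = h * x * h⁻¹ * r := by rw [h1]; group,
      by rw [conj_pow, hx'']; group⟩
  have hVE : 𝐕 ≤ centralizer (E : Set G) := fun v hv => Subgroup.mem_centralizer_iff.mpr fun x hx =>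
    (Subgroup.mem_centralizer_iff.mp (CfsgA8C.core_le _ (hRW hx.1)) v hv).symm
  haveI : Nontrivial ↥(R : Subgroup G) := (Subgroup.nontrivial_iff_ne_bot _).mpr fun e => by
    have h1 : Nat.card R = 1 := by rw [e, Subgroup.card_bot]
    rw [hR, Subgroup.card_map_of_injective (Subgroup.subtype_injective _), P.card_eq_multiplicity] at h1
    have h2 := (Nat.Prime.factorization_pos_of_dvd hp Nat.card_pos.ne' (Nat.minFac_dvd _))
    rcases Nat.pow_eq_one.mp h1 with e1 | e1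
    · exact hp.ne_one e1
    · exact absurd e1 h2.ne'
  have hRp : IsPGroup p R := P.2.map _
  haveI := hRp.center_nontrivial
  obtain ⟨j, hj⟩ := (hRp.to_subgroup (Subgroup.center R)).exists_card_eq
  have hj0 : j ≠ 0 := fun e => by
    have := Finite.one_lt_card (α := Subgroup.center R)
    rw [hj, e, pow_zero] at this
    omega
  obtain ⟨x, hx⟩ := exists_prime_orderOf_dvd_card' p (hj ▸ dvd_pow_self p hj0 : p ∣ Nat.card (Subgroup.center R))
  have hxo : orderOf ((x : R) : G) = p := by rw [Subgroup.orderOf_coe, Subgroup.orderOf_coe, hx]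
  have hxE : ((x : R) : G) ∈ E := ⟨(x : R).2,
    fun r hr => congrArg Subtype.val (Subgroup.mem_center_iff.mp x.2 ⟨r, hr⟩), hxo ▸ pow_orderOf_eq_one _⟩
  set x0 := ((x : R) : G)
  have hact : ∀ h ∈ Subgroup.normalizer (R : Set G), h * x0 * h⁻¹ ∈ zpowers x0 := fun h hh =>
    c.scalar_act hp2 (E := E) (fun a ha => ha.2.2) hVE (hNE hh) hxE
  have hVx : ∀ v ∈ 𝐕, v * x0 = x0 * v := fun v hv =>
    (Subgroup.mem_centralizer_iff.mp (hVE hv) x0 hxE).symm
  -- the Sylow subgroup centralizes it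
  have hSx : ∀ s ∈ 𝐒, s * x0 = x0 * s := by
    intro s hs
    obtain ⟨r, hr, v, hv, rfl⟩ := c.rot_cover hgN hg hs
    have hrs : ∀ h ∈ Subgroup.normalizer (R : Set G), ∃ i : ℕ, h * x0 * h⁻¹ = x0 ^ i := fun h hh => by
      obtain ⟨i, hi⟩ := exists_npow (hact h hh)
      exact ⟨i, hi.symm⟩
    obtain ⟨i, hi⟩ := hrs (g⁻¹) (inv_mem hgR)
    obtain ⟨j, hj⟩ := hrs (r⁻¹) (inv_mem (hP hr))
    have e1 : g⁻¹ * r⁻¹ * x0 * (g⁻¹ * r⁻¹)⁻¹ = r⁻¹ * g⁻¹ * x0 * (r⁻¹ * g⁻¹)⁻¹ := by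
      calc g⁻¹ * r⁻¹ * x0 * (g⁻¹ * r⁻¹)⁻¹ = g⁻¹ * (r⁻¹ * x0 * r⁻¹⁻¹) * g⁻¹⁻¹ := by group
        _ = x0 ^ (i * j) := by rw [hj, ← conj_pow, hi, pow_mul]
        _ = x0 ^ (j * i) := by rw [mul_comm]
        _ = r⁻¹ * (g⁻¹ * x0 * g⁻¹⁻¹) * r⁻¹⁻¹ := by rw [hi, ← conj_pow, hj, pow_mul]
        _ = r⁻¹ * g⁻¹ * x0 * (r⁻¹ * g⁻¹)⁻¹ := by group
    have e2 : Commute (g⁻¹ * r⁻¹ * g * r) x0 := by
      set a := g⁻¹ * r⁻¹
      set b := r⁻¹ * g⁻¹
      obtain ⟨l, hl⟩ := exists_npow (hact b (mul_mem (inv_mem (hP hr)) (inv_mem hgR)))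
      have hfix : (a * b⁻¹) * (x0 ^ l) = (x0 ^ l) * (a * b⁻¹) := by
        rw [hl]
        calc a * b⁻¹ * (b * x0 * b⁻¹) = (a * x0 * a⁻¹) * (a * b⁻¹) := by group
          _ = _ := by rw [e1]
      have hgen : x0 ∈ zpowers (x0 ^ l) := by
        have : orderOf (x0 ^ l) = p := by
          rw [hl, ← hxo]; exact MulEquiv.orderOf_eq (MulAut.conj b) x0
        have hle : zpowers (x0 ^ l) ≤ zpowers x0 := zpowers_le.mpr (npow_mem_zpowers x0 l)
        rw [eq_of_le_of_card_ge hle (by rw [Nat.card_zpowers, Nat.card_zpowers, this, hxo])]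
        exact mem_zpowers x0
      obtain ⟨e, he⟩ := hgen
      have h3 : Commute (a * b⁻¹) x0 := by
        have := (show Commute (a * b⁻¹) (x0 ^ l) from hfix).zpow_right e
        rwa [show (x0 ^ l) ^ e = x0 from he] at this
      rwa [show a * g * r = a * b⁻¹ by simp only [b]; group]
    exact (e2.mul_left (hVx v hv)).eq
  refine ⟨p, hp, hp2, g, hgN, hg, x0, hRW hxE.1, hxo, hact g hgR, hSx, fun y hy hyx => ?_⟩
  obtain ⟨s, hs, o, ho, rfl⟩ := c.CV_ctl y hy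
  have hox : o * x0 * o⁻¹ ∈ zpowers x0 := by
    obtain ⟨i, hi⟩ := Subgroup.mem_zpowers_iff.mp hyx
    refine ⟨i, ?_⟩
    show x0 ^ i = o * x0 * o⁻¹
    have e : o * x0 * o⁻¹ = s⁻¹ * (s * o * x0 * (s * o)⁻¹) * s := by group
    rw [e, ← hi, mul_assoc, (show Commute s x0 from hSx s hs).zpow_right i |>.symm.eq, inv_mul_cancel_left]
  have hoc : (orderOf o).Coprime (p - 1) := by
    refine Nat.coprime_of_dvd fun q hq hq1 hq2 => ?_
    have h1 : q ∣ Nat.card 𝐖 := hq1.trans (by rw [← Subgroup.orderOf_mk o ho]; exact _root_.orderOf_dvd_natCard _)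
    have h2 : p ≤ q := Nat.minFac_le_of_dvd hq.two_le h1
    have h3 := Nat.le_of_dvd (Nat.sub_pos_of_lt hp.one_lt) hq2
    exact absurd (Nat.lt_of_le_of_lt h3 (Nat.sub_lt hp.pos Nat.one_pos)) (not_lt.mpr h2)
  have e := fix_of_coprime hxo hox hoc
  calc s * o * x0 * (s * o)⁻¹ = s * (o * x0 * o⁻¹) * s⁻¹ := by group
    _ = x0 := by rw [e, hSx s hs, mul_inv_cancel_right]

/-- The odd core of the centralizer of the centre is trivial. -/
theorem W_eq_bot : 𝐖 = ⊥ := by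
  classical
  haveI := Fact.mk Nat.prime_two
  by_contra hW
  obtain ⟨p, hp, hp2, g, hgS, hg, x, hxW, hxo, hgx, hSx, hCVx⟩ := c.exists_special hW
  haveI := Fact.mk hp
  have hVx : ∀ v ∈ 𝐕, Commute v x := fun v hv => hSx v (c.V_le hv)
  -- the rotation centralizes it
  obtain ⟨v, hv, hv1⟩ := c.exists_ne_one
  set w := g * v * g⁻¹ with hw
  have hwV : w ∈ 𝐕 := c.conj_V hg.mem hv
  haveI : IsKleinFour 𝐕 := ⟨c.card_V, by
    have e := Monoid.exponent_eq_of_mulEquiv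
      ((Subgroup.center 𝐒).equivMapOfInjective (Subgroup.subtype 𝐒) (Subgroup.subtype_injective _))
    haveI := c.hV
    exact e.symm.trans IsKleinFour.exponent_two⟩
  have hvwV : v * w ∈ 𝐕 := mul_mem hv hwV
  let σ : 𝐕 ≃ 𝐕 := Equiv.swap ⟨w, hwV⟩ ⟨v * w, hvwV⟩
  have hw1 : w ≠ 1 := fun e => hv1 (conj_eq_one_iff.mp e)
  have hvw : v ≠ w := fun e => hg.no_fix c hv hv1 e.symm
  have hu1 : v * w ≠ 1 := fun e => hvw (by rw [mul_eq_one_iff_eq_inv, c.V_inv hwV] at e; exact e)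
  have hσ1 : σ 1 = 1 := Equiv.swap_apply_of_ne_of_ne (fun e => hw1 (congrArg Subtype.val e).symm)
    (fun e => hu1 (congrArg Subtype.val e).symm)
  let β : 𝐕 ≃* 𝐕 := IsKleinFour.mulEquiv (G₁ := 𝐕) (G₂ := 𝐕) σ hσ1
  have hβv : β ⟨v, hv⟩ = ⟨v, hv⟩ := Equiv.swap_apply_of_ne_of_ne (fun e => hvw (congrArg Subtype.val e))
    (fun e => hw1 (left_eq_mul.mp (congrArg Subtype.val e)))
  have hβw : β ⟨w, hwV⟩ = ⟨v * w, hvwV⟩ := Equiv.swap_apply_left _ _
  let f : 𝐕 × zpowers x →* G := MonoidHom.noncommCoprod (Subgroup.subtype 𝐕) (Subgroup.subtype (zpowers x)) fun a b => by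
    obtain ⟨i, hi⟩ := b.2
    show Commute (a : G) (b : G)
    rw [← hi]
    exact (hVx a a.2).zpow_right i
  have hf : ∀ a b, f (a, b) = (a : G) * b := fun a b => rfl
  have hinj : Function.Injective f := by
    rw [injective_iff_map_eq_one]
    rintro ⟨a, b⟩ e
    rw [hf] at e
    have hb : (b : G) = 1 := by
      refine CfsgA8C.eq_one_of_odd_sq ?_ ((hp.odd_of_ne_two hp2).of_dvd_nat ?_)
      · rw [eq_inv_of_mul_eq_one_right e, c.V_inv a.2, c.V_sq a.2]
      · rw [← hxo, Subgroup.orderOf_coe, ← Nat.card_zpowers x]; exact _root_.orderOf_dvd_natCard _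
    rw [hb, mul_one] at e
    exact Prod.ext (Subtype.ext e) (Subtype.ext hb)
  let ι := MonoidHom.ofInjective hinj
  obtain ⟨φ, hφ⟩ := c.hom.extend f.range ((ι.symm.trans (β.prodCongr (MulEquiv.refl _))).trans ι)
  have hφ' : ∀ (a : 𝐕) (b : zpowers x), φ ((a : G) * b) = (β a : G) * b := fun a b => by
    have h := hφ (ι (a, b))
    rw [MulEquiv.trans_apply, MulEquiv.trans_apply, MulEquiv.symm_apply_apply] at h
    exact h
  have hφx : φ x = x := by
    simpa [map_one] using hφ' 1 ⟨x, mem_zpowers x⟩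
  have hφV : ∀ a : 𝐕, φ (a : G) = (β a : G) := fun a => by simpa using hφ' a 1
  set g' := φ g with hg'
  have hg'N : g' ∈ NV := CfsgA8C.mem_normalizer_of_le fun a ha => by
    have h1 : φ (g * (β.symm ⟨a, ha⟩ : G) * g⁻¹) = g' * a * g'⁻¹ := by
      rw [map_mul, map_mul, map_inv, hφV, MulEquiv.apply_symm_apply]
    rw [← h1, hφV ⟨_, c.conj_V hg.mem (β.symm ⟨a, ha⟩).2⟩]
    exact SetLike.coe_mem _
  have hg'v : g' * v * g'⁻¹ = v * w := by
    have h1 : φ (g * v * g⁻¹) = g' * v * g'⁻¹ := by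
      rw [map_mul, map_mul, map_inv, hφV ⟨v, hv⟩, hβv]
    rw [← h1, ← hw, hφV ⟨w, hwV⟩, hβw]
  have hgg' : g * g' ∈ CV := c.fix_one (mul_mem hg.mem hg'N) hv hv1 (by
    rw [show g * g' * v * (g * g')⁻¹ = g * (g' * v * g'⁻¹) * g⁻¹ by group, hg'v, ← (hg.cube c hv hv1).1]
    exact (hg.cube c hv hv1).2)
  obtain ⟨k, hk⟩ := exists_npow hgx
  have hg'x : g' * x * g'⁻¹ = x ^ k := by
    calc g' * x * g'⁻¹ = φ (g * x * g⁻¹) := by rw [map_mul, map_mul, map_inv, hφx]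
      _ = x ^ k := by rw [← hk, map_pow, hφx]
  have hg2 : g * g * x * (g * g)⁻¹ = x := by
    have e1 : g * g * x * (g * g)⁻¹ = g * g' * x * (g * g')⁻¹ := by
      rw [show g * g * x * (g * g)⁻¹ = g * (g * x * g⁻¹) * g⁻¹ by group, ← hk, ← hg'x]; group
    rw [e1]
    refine hCVx _ hgg' ?_
    rw [← e1, show g * g * x * (g * g)⁻¹ = g * (g * x * g⁻¹) * g⁻¹ by group, ← hk, ← conj_pow, ← hk]
    exact pow_mem (npow_mem_zpowers x k) k
  have hgc : g * x * g⁻¹ = x := mul_inv_eq_iff_eq_mul.mpr (Subgroup.mem_centralizer_singleton_iff.mp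
    (mem_of_sq hg.odd (Subgroup.mem_centralizer_singleton_iff.mpr (mul_inv_eq_iff_eq_mul.mp hg2))))
  -- every normalizing element centralizes it
  set C := Subgroup.centralizer ({x} : Set G)
  have hSC : 𝐒 ≤ C := fun s hs => Subgroup.mem_centralizer_singleton_iff.mpr (hSx s hs)
  have hfix : CyclicFixed x := by
    intro γ hγ
    obtain ⟨i, hi⟩ := Subgroup.mem_zpowers_iff.mp hγ
    set S' : Sylow 2 G := γ • c.S
    have hS'C : (S' : Subgroup G) ≤ C := by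
      rw [Sylow.coe_subgroup_smul]
      rintro _ ⟨s, hs, rfl⟩
      refine Subgroup.mem_centralizer_singleton_iff.mpr ?_
      obtain ⟨e, he⟩ : x ∈ zpowers (γ * x * γ⁻¹) := by
        rw [eq_of_le_of_card_ge (zpowers_le.mpr hγ) (by
          rw [Nat.card_zpowers, Nat.card_zpowers]
          exact (MulEquiv.orderOf_eq (MulAut.conj γ) x).ge)]
        exact mem_zpowers x
      have h1 : Commute (γ * s * γ⁻¹) (γ * x * γ⁻¹) := (show Commute s x from hSx s hs).map (MulAut.conj γ).toMonoidHom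
      have h2 := h1.zpow_right e
      rw [show (γ * x * γ⁻¹) ^ e = x from he] at h2
      exact h2.eq
    obtain ⟨⟨d, hd⟩, hdS⟩ := MulAction.exists_smul_eq C (S'.subtype hS'C) (c.S.subtype hSC)
    have hyN : d * γ ∈ NS := CfsgA8C.mem_normalizer_of_le fun s hs => by
      have hs' : γ * s * γ⁻¹ ∈ (S' : Subgroup G) := by
        rw [Sylow.coe_subgroup_smul]; exact ⟨s, hs, rfl⟩
      have h : (⟨d, hd⟩ : C) * ⟨_, hS'C hs'⟩ * (⟨d, hd⟩ : C)⁻¹ ∈ (c.S.subtype hSC : Subgroup C) := by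
        rw [← hdS, Sylow.coe_subgroup_smul]; exact ⟨_, hs', rfl⟩
      rw [show d * γ * s * (d * γ)⁻¹ = d * (γ * s * γ⁻¹) * d⁻¹ by group]
      exact h
    have hdx : d * x * d⁻¹ = x := mul_inv_eq_iff_eq_mul.mpr (Subgroup.mem_centralizer_singleton_iff.mp hd)
    have hdg : d * γ * x * (d * γ)⁻¹ = γ * x * γ⁻¹ := by
      rw [show d * γ * x * (d * γ)⁻¹ = d * (γ * x * γ⁻¹) * d⁻¹ by group, ← hi, ← conj_zpow, hdx]
    obtain ⟨z, hz, j, -, hj⟩ := hg.decomp c (c.N_S_le hyN)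
    have hgj : g ^ j * x * (g ^ j)⁻¹ = x := by
      rw [pow_conj (k := 1) (by rw [pow_one]; exact hgc) j, one_pow, pow_one]
    have hzx : z * x * z⁻¹ = d * γ * x * (d * γ)⁻¹ := by
      have e1 : z * x * z⁻¹ = (g ^ j)⁻¹ * (d * γ * x * (d * γ)⁻¹) * g ^ j := by rw [hj]; group
      rw [e1, hdg, ← hi]
      have : Commute (g ^ j) (x ^ i) := (show Commute (g ^ j) x from mul_inv_eq_iff_eq_mul.mp hgj).zpow_right i
      rw [mul_assoc, ← this.eq, inv_mul_cancel_left]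
    have := hCVx z hz (by rw [hzx, hdg]; exact hγ)
    rw [← hdg, ← hzx, this]
  obtain ⟨P, N, hN, hNP⟩ := c.hom.hasNormalPComplement_of_fixed hp2 hxo hfix
  rcases hN.eq_bot_or_eq_top with e | e
  · subst e
    have hP : (P : Subgroup G) = ⊤ := Subgroup.isComplement'_bot_left.mp hNP
    obtain ⟨k, hk⟩ := P.2.exists_card_eq
    rw [hP, Subgroup.card_top] at hk
    have h64 : (2 : ℕ) ∣ Nat.card G := dvd_trans (by rw [c.c64]; norm_num) (Subgroup.card_subgroup_dvd_card 𝐒)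
    rw [hk] at h64
    exact hp2 ((Nat.prime_dvd_prime_iff_eq Nat.prime_two hp).mp (Nat.prime_two.dvd_of_dvd_pow h64)).symm
  · subst e
    have hP : (P : Subgroup G) = ⊥ := Subgroup.isComplement'_top_left.mp hNP
    have h1 := P.card_eq_multiplicity
    rw [hP, Subgroup.card_bot] at h1
    have h2 := (Nat.Prime.factorization_pos_of_dvd hp Nat.card_pos.ne'
      (hxo ▸ _root_.orderOf_dvd_natCard x : p ∣ Nat.card G))
    exact absurd (Nat.pow_eq_one.mp h1.symm) (by have := hp.ne_one; omega)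

/-- The centralizer of the centre is the Sylow subgroup. -/
theorem CV_eq : CV = 𝐒 := by
  refine le_antisymm (fun y hy => ?_) c.S_le_CV
  obtain ⟨s, hs, o, ho, rfl⟩ := c.CV_ctl y hy
  rw [c.W_eq_bot, Subgroup.mem_bot] at ho
  rw [ho, mul_one]; exact hs

end Ctx

end CfsgLib.Homogeneous.Unitary
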