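import Cfsg.Agent.Lib.Homogeneous.Unitary.Cent

/-!
The centralizer of an involution is the Sylow subgroup.
-/

set_option autoImplicit false

namespace CfsgLib.Homogeneous.Unitary

open Cfsg Subgroup Module
open scoped IsMulCommutative commutatorElement

universe u

variable {G : Type u} [Group G] [Finite G]

/-- In exponent `p`, a transvection has order `p`. -/
theorem tv_pow_apply {F : Type*} [Field F] {M : Type*} [AddCommGroup M] [Module F M] {f : Dual F M} {v : M}
    (h : f v = 0) {x : M} (hx : f x = 1) (k : ℕ) : (LinearEquiv.transvection h ^ k) x = x + (k : F) • v := by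
  induction k with
  | zero => simp
  | succ k ih =>
    rw [pow_succ', LinearEquiv.mul_apply, ih, LinearEquiv.transvection.apply, map_add, map_smul, h, hx]
    push_cast
    simp [add_smul]
    abel

namespace Ctx

variable (c : Ctx G) [IsSimpleGroup G]

local notation "𝐒" => (Sylow.toSubgroup (Ctx.S c))
local notation "𝐕" => Ctx.V c
local notation "NV" => Subgroup.normalizer ((Ctx.V c : Subgroup G) : Set G)
local notation "CV" => Subgroup.centralizer ((Ctx.V c : Subgroup G) : Set G)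

theorem mem_S_of_comm {t u y : G} (ht : t ∈ 𝐕) (hu : u ∈ 𝐕) (ht1 : t ≠ 1) (hu1 : u ≠ 1) (htu : t ≠ u)
    (h1 : y * t = t * y) (h2 : y * u = u * y) : y ∈ 𝐒 := by
  rw [← c.CV_eq]
  refine Subgroup.mem_centralizer_iff.mpr fun w hw => ?_
  rcases c.klein ht hu ht1 hu1 htu hw with rfl | rfl | rfl | rfl
  · rw [one_mul, mul_one]
  · exact h1.symm
  · exact h2.symm
  · rw [mul_assoc, ← h2, ← mul_assoc, ← h1, mul_assoc]

/-- The centralizer of an involution of the centre. -/
theorem cent_eq {t : G} (ht : t ∈ 𝐕) (ht1 : t ≠ 1) : Subgroup.centralizer ({t} : Set G) = 𝐒 := by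
  classical
  haveI := Fact.mk Nat.prime_two
  set C := Subgroup.centralizer ({t} : Set G) with hC
  have hmC : ∀ {y : G}, y ∈ C ↔ y * t = t * y := Subgroup.mem_centralizer_singleton_iff
  have hSC : 𝐒 ≤ C := fun s hs => hmC.mpr (c.V_comm ht hs)
  refine le_antisymm (fun g hg => ?_) hSC
  obtain ⟨n, hnS, hn⟩ := c.exists_rot
  set u := n * t * n⁻¹ with hu
  have huV : u ∈ 𝐕 := c.conj_V hn.mem ht
  have hu1 : u ≠ 1 := fun e => ht1 (conj_eq_one_iff.mp e)
  have htu : t ≠ u := fun e => hn.no_fix c ht ht1 e.symm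
  have huu : u * u = 1 := c.V_sq huV
  have huinv : u⁻¹ = u := c.V_inv huV
  have hcomm : t * u = u * t := c.V_abelian ht huV
  -- it is isolated in the centralizer
  set u' : C := ⟨u, hSC (c.V_le huV)⟩ with hu'
  have hord : orderOf u' = 2 := orderOf_eq_prime (Subtype.ext (by rw [pow_two]; exact huu))
    fun e => hu1 (congrArg Subtype.val e)
  have hiso : IsIsolated u' := by
    rintro ⟨y, hy⟩ hc
    have hx : Commute u (y * u * y⁻¹) := congrArg Subtype.val hc
    refine Subtype.ext ?_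
    show y * u * y⁻¹ = u
    set x := y * u * y⁻¹ with hxdef
    have hyt : y * t * y⁻¹ = t := mul_inv_eq_iff_eq_mul.mpr (hmC.mp hy)
    have hxt : x * t = t * x := by
      rw [show x * t = y * (u * (y⁻¹ * (t) * y)) * y⁻¹ by simp only [hxdef]; group,
        show t * x = y * ((y⁻¹ * t * y) * u) * y⁻¹ by simp only [hxdef]; group,
        show y⁻¹ * t * y = t by nth_rewrite 1 [← hyt]; group, hcomm]
    have hxS : x ∈ 𝐒 := c.mem_S_of_comm ht huV ht1 hu1 htu hxt hx.eq.symm
    have hxV : x ∈ 𝐕 := c.invol_mem hxS (by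
      rw [show x * x = y * (u * u) * y⁻¹ by simp only [hxdef]; group, huu]; group)
    rcases c.klein ht huV ht1 hu1 htu hxV with e | e | e | e
    · exact absurd (conj_eq_one_iff.mp e) hu1
    · exact absurd (mul_left_cancel (mul_right_cancel (e.trans hyt.symm))).symm htu
    · exact e
    · have hyN : y ∈ NV := CfsgA8C.mem_normalizer_of_le fun w hw => by
        rcases c.klein ht huV ht1 hu1 htu hw with rfl | rfl | rfl | rfl
        · rw [mul_one, mul_inv_cancel]; exact one_mem _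
        · rw [hyt]; exact ht
        · exact hxV
        · rw [show y * (t * u) * y⁻¹ = y * t * y⁻¹ * (y * u * y⁻¹) by group, hyt]; exact mul_mem ht hxV
      have := Subgroup.mem_centralizer_iff.mp (c.fix_one hyN ht ht1 hyt) u huV
      exact mul_inv_eq_iff_eq_mul.mpr this.symm
  set O := (pPrimeCore 2 C).map C.subtype with hO
  have hOC : O ≤ C := Subgroup.map_subtype_le _
  have hOodd : Odd (Nat.card O) := by
    rw [hO, Subgroup.card_map_of_injective C.subtype_injective, ← Nat.not_even_iff_odd, even_iff_two_dvd]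
    exact CfsgLib.not_dvd_card_pPrimeCore Nat.prime_two
  have hOn : ∀ y ∈ C, ∀ o ∈ O, y * o * y⁻¹ ∈ O := by
    rintro y hy _ ⟨o, ho, rfl⟩
    exact ⟨⟨y, hy⟩ * o * ⟨y, hy⟩⁻¹, (inferInstance : (pPrimeCore 2 C).Normal).conj_mem o ho _, rfl⟩
  have hdec : ∀ y ∈ C, ∃ o ∈ O, ∃ s ∈ 𝐒, y = o * s := by
    intro y hy
    set d := u * y * u⁻¹ * y⁻¹ with hd
    have hdO : d ∈ O := ⟨_, CfsgLib.ZStar.commutator_mem hord hiso ⟨y, hy⟩, rfl⟩
    obtain ⟨j, hj⟩ := CfsgA8C.odd_orderOf hOodd hdO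
    have hinvd : u * d * u⁻¹ = d⁻¹ := by
      simp only [hd, mul_inv_rev, inv_inv, huinv]
      rw [show u * (u * y * u * y⁻¹) * u = (u * u) * (y * u * y⁻¹) * u by group, huu, one_mul]
      group
    have hud : u * d = y * u * y⁻¹ := by
      simp only [hd, huinv]
      rw [show u * (u * y * u * y⁻¹) = (u * u) * (y * u * y⁻¹) by group, huu, one_mul]
    have ho : d ^ j ∈ O := pow_mem hdO j
    have hkey : d ^ j * u * (d ^ j)⁻¹ = y * u * y⁻¹ := by
      have e1 : u * d ^ j * u⁻¹ = (d ^ j)⁻¹ := by rw [← conj_pow, hinvd, inv_pow]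
      have e2 : (d ^ j)⁻¹ * (d ^ j)⁻¹ = d := by
        rw [← mul_inv_rev, inv_eq_iff_mul_eq_one, ← pow_add, ← pow_succ, show j + j + 1 = orderOf d by omega,
          pow_orderOf_eq_one]
      calc d ^ j * u * (d ^ j)⁻¹ = u * (u⁻¹ * d ^ j * u) * (d ^ j)⁻¹ := by group
        _ = u * ((d ^ j)⁻¹ * (d ^ j)⁻¹) := by
          have e3 : u⁻¹ * d ^ j * u = (d ^ j)⁻¹ := by rw [huinv] at e1 ⊢; exact e1
          rw [e3]; group
        _ = y * u * y⁻¹ := by rw [e2, hud]
    refine ⟨d ^ j, ho, (d ^ j)⁻¹ * y, ?_, by rw [mul_inv_cancel_left]⟩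
    refine c.mem_S_of_comm ht huV ht1 hu1 htu (hmC.mp (mul_mem (inv_mem (hOC ho)) hy)) ?_
    refine mul_inv_eq_iff_eq_mul.mp ?_
    calc (d ^ j)⁻¹ * y * u * ((d ^ j)⁻¹ * y)⁻¹ = (d ^ j)⁻¹ * (y * u * y⁻¹) * d ^ j := by group
      _ = u := by rw [← hkey]; group
  have hOS : ∀ x ∈ O, x ∈ 𝐒 → x = 1 := fun x hxO hxS =>
    CfsgA8C.eq_one_of_odd_sq
      (CfsgA8C.eq_one_of_odd_sq (c.V_sq (c.sq_mem hxS)) (CfsgA8C.odd_orderOf hOodd (mul_mem hxO hxO)))
      (CfsgA8C.odd_orderOf hOodd hxO)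
  by_cases hO1 : O = ⊥
  · obtain ⟨o, ho, s, hs, rfl⟩ := hdec g hg
    rw [hO1, Subgroup.mem_bot] at ho
    rw [ho, one_mul]; exact hs
  exfalso
  -- the core is inverted
  have huC : u ∈ C := hSC (c.V_le huV)
  have hinv : ∀ o ∈ O, u * o * u⁻¹ = o⁻¹ := by
    let F : O → O := fun o => ⟨(o : G)⁻¹ * (u * o * u⁻¹), mul_mem (inv_mem o.2) (hOn u huC _ o.2)⟩
    have hF : Function.Injective F := fun a b e => by
      have e1 : (a : G)⁻¹ * (u * a * u⁻¹) = (b : G)⁻¹ * (u * b * u⁻¹) := congrArg Subtype.val e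
      have hc : u * ((b : G) * (a : G)⁻¹) = (b : G) * (a : G)⁻¹ * u := by
        refine mul_inv_eq_iff_eq_mul.mp ?_
        calc u * ((b : G) * (a : G)⁻¹) * u⁻¹ = b * ((b : G)⁻¹ * (u * b * u⁻¹)) * (u * a * u⁻¹)⁻¹ := by group
          _ = b * (a : G)⁻¹ := by rw [← e1]; group
      have hm := mul_mem b.2 (O.inv_mem a.2)
      have := hOS _ hm (c.mem_S_of_comm ht huV ht1 hu1 htu (hmC.mp (hOC hm)) hc.symm)
      exact Subtype.ext (mul_inv_eq_one.mp this).symm
    intro o ho
    obtain ⟨⟨a, ha⟩, e⟩ := (Finite.injective_iff_surjective.mp hF) ⟨o, ho⟩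
    have e1 : a⁻¹ * (u * a * u⁻¹) = o := congrArg Subtype.val e
    rw [← e1, huinv]
    calc u * (a⁻¹ * (u * a * u)) * u = u * a⁻¹ * u * a * (u * u) := by group
      _ = (a⁻¹ * (u * a * u))⁻¹ := by
        rw [huu]; simp only [mul_inv_rev, inv_inv, huinv]; group
  have hab : ∀ a ∈ O, ∀ b ∈ O, a * b = b * a := by
    intro a ha b hb
    have e := hinv _ (mul_mem ha hb)
    rw [show u * (a * b) * u⁻¹ = u * a * u⁻¹ * (u * b * u⁻¹) by group, hinv a ha, hinv b hb, ← mul_inv_rev,
      inv_inj] at e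
    exact e.symm
  -- the subgroup of exponent `p`
  have hcard : Nat.card O ≠ 1 := fun h => hO1 (Subgroup.card_eq_one.mp h)
  obtain ⟨p, hp, hpd⟩ := Nat.exists_prime_and_dvd hcard
  haveI := Fact.mk hp
  have hp2 : p ≠ 2 := fun e => (Nat.not_even_iff_odd.mpr hOodd) (even_iff_two_dvd.mpr (e ▸ hpd))
  obtain ⟨x0, hx0⟩ := exists_prime_orderOf_dvd_card' p hpd
  let E : Subgroup G :=
    { carrier := {x | x ∈ O ∧ x ^ p = 1}
      one_mem' := ⟨one_mem _, one_pow _⟩
      mul_mem' := fun {a b} h h' => ⟨O.mul_mem h.1 h'.1,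
        by rw [(show Commute a b from hab a h.1 b h'.1).mul_pow, h.2, h'.2, one_mul]⟩
      inv_mem' := fun {a} h => ⟨O.inv_mem h.1, by rw [inv_pow, h.2, inv_one]⟩ }
  haveI : IsMulCommutative ↥E := ⟨⟨fun a b => Subtype.ext (hab a a.2.1 b b.2.1)⟩⟩
  have hexp : ∀ a ∈ E, a ^ p = 1 := fun a ha => ha.2
  haveI : Module (ZMod p) (Additive ↥E) := elemModule hexp
  haveI : Finite (Additive ↥E) := inferInstanceAs (Finite ↥E)
  haveI : FiniteDimensional (ZMod p) (Additive ↥E) := Module.Finite.of_finite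
  have hx0E : (x0 : G) ∈ E := ⟨x0.2, by
    rw [← hx0, ← Subgroup.orderOf_coe]; exact pow_orderOf_eq_one _⟩
  have hCN : C ≤ normalizer (E : Set G) := fun y hy => CfsgA8C.mem_normalizer_of_le fun x hx =>
    ⟨hOn y hy x hx.1, by rw [conj_pow, hx.2]; group⟩
  have hVfix : ∀ v ∈ 𝐕, v ∈ centralizer (E : Set G) → v = 1 ∨ v = t := by
    intro v hv hvE
    have h1 := Subgroup.mem_centralizer_iff.mp hvE _ hx0E
    have key : u * x0 * u⁻¹ = x0 → False := fun e => by
      rw [hinv _ x0.2, inv_eq_iff_mul_eq_one] at e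
      have := CfsgA8C.eq_one_of_odd_sq e (CfsgA8C.odd_orderOf hOodd x0.2)
      exact hp.ne_one (by rw [← hx0, ← Subgroup.orderOf_coe, this, orderOf_one])
    rcases c.klein ht huV ht1 hu1 htu hv with e | e | e | e
    · exact Or.inl e
    · exact Or.inr e
    · subst e; exact (key (mul_inv_eq_iff_eq_mul.mpr h1.symm)).elim
    · subst e
      refine (key (mul_inv_eq_iff_eq_mul.mpr ?_)).elim
      have h2 : t * x0 = x0 * t := (hmC.mp (hOC x0.2)).symm
      calc u * (x0 : G) = t⁻¹ * (t * u * x0) := by group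
        _ = t⁻¹ * (x0 * t) * u := by rw [← h1]; group
        _ = x0 * u := by rw [← h2]; group
  have hinvol : ∀ z ∈ C, z * z = 1 → z ∈ centralizer (E : Set G) → z = 1 ∨ z = t := by
    intro z hz hzz hzE
    obtain ⟨o, ho, s, hs, rfl⟩ := hdec z hz
    have hso : s * o * s⁻¹ ∈ O := hOn s (hSC hs) o ho
    have hs2 : s * s = 1 := by
      refine hOS _ ?_ (mul_mem hs hs)
      have : s * s = (o * (s * o * s⁻¹))⁻¹ := eq_inv_of_mul_eq_one_right (by
        rw [show o * (s * o * s⁻¹) * (s * s) = o * s * (o * s) by group, hzz])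
      rw [this]; exact inv_mem (mul_mem ho hso)
    have hsV := c.invol_mem hs hs2
    have hsE : s ∈ centralizer (E : Set G) := Subgroup.mem_centralizer_iff.mpr fun x hx => by
      have h := Subgroup.mem_centralizer_iff.mp hzE x hx
      rw [show x * (o * s) = o * (x * s) by rw [← mul_assoc, hab x hx.1 o ho, mul_assoc], mul_assoc] at h
      exact mul_left_cancel h
    have hst := hVfix s hsV hsE
    have ho1 : o = 1 := by
      refine CfsgA8C.eq_one_of_odd_sq ?_ (CfsgA8C.odd_orderOf hOodd ho)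
      have e : s * o = o * s := by
        rcases hst with rfl | rfl
        · rw [one_mul, mul_one]
        · exact (hmC.mp (hOC ho)).symm
      rwa [show o * s * (o * s) = o * (s * o) * s by group, e,
        show o * (o * s) * s = o * o * (s * s) by group, hs2, mul_one] at hzz
    rw [ho1, one_mul]; exact hst
  have htE : t ∈ centralizer (E : Set G) := Subgroup.mem_centralizer_iff.mpr fun x hx => hmC.mp (hOC hx.1)
  have hred : ∀ g ∈ normalizer (E : Set G), ∃ s ∈ 𝐒, ∀ a ∈ E, g * a * g⁻¹ = s * a * s⁻¹ := by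
    intro g hg
    have htg : g * t * g⁻¹ ∈ centralizer (E : Set G) := Subgroup.mem_centralizer_iff.mpr fun x hx => by
      have h := Subgroup.mem_centralizer_iff.mp htE _ ((Subgroup.mem_normalizer_iff''.mp hg x).mp hx)
      calc x * (g * t * g⁻¹) = g * ((g⁻¹ * x * g) * t) * g⁻¹ := by group
        _ = g * t * g⁻¹ * x := by rw [h]; group
    set CE := centralizer (E : Set G)
    have htwo : (g * t * g⁻¹) * (g * t * g⁻¹) = 1 := by
      rw [show g * t * g⁻¹ * (g * t * g⁻¹) = g * (t * t) * g⁻¹ by group, c.V_sq ht]; group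
    obtain ⟨P, hP⟩ := ((two_elem_isPGroup (k := 1) (by rw [pow_one, pow_two, c.V_sq ht]) :
      IsPGroup 2 (zpowers t)).comap_subtype (K := CE)).exists_le_sylow
    obtain ⟨P', hP'⟩ := ((two_elem_isPGroup (k := 1) (by rw [pow_one, pow_two, htwo]) :
      IsPGroup 2 (zpowers (g * t * g⁻¹))).comap_subtype (K := CE)).exists_le_sylow
    obtain ⟨⟨k, hk⟩, hkP⟩ := MulAction.exists_smul_eq CE P' P
    set z := k * (g * t * g⁻¹) * k⁻¹ with hz
    have hzP : ∃ w ∈ (P : Subgroup CE), (w : G) = z := by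
      refine ⟨⟨k, hk⟩ * ⟨_, htg⟩ * ⟨k, hk⟩⁻¹, ?_, rfl⟩
      rw [← hkP, Sylow.coe_subgroup_smul]
      exact ⟨_, hP' (Subgroup.mem_zpowers (g * t * g⁻¹)), rfl⟩
    have hzz : z * z = 1 := by
      rw [show z * z = k * ((g * t * g⁻¹) * (g * t * g⁻¹)) * k⁻¹ by simp only [hz]; group, htwo]; group
    obtain ⟨h, hh⟩ := exists_conj_le c.S (P.2.map CE.subtype)
    obtain ⟨w, hw, hwz⟩ := hzP
    have h1 : h * z * h⁻¹ ∈ 𝐕 := c.invol_mem (hh z ⟨w, hw, hwz⟩) (by
      rw [show h * z * h⁻¹ * (h * z * h⁻¹) = h * (z * z) * h⁻¹ by group, hzz]; group)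
    have h2 : h * t * h⁻¹ ∈ 𝐕 := c.invol_mem (hh t ⟨⟨t, htE⟩, hP (Subgroup.mem_zpowers t), rfl⟩) (by
      rw [show h * t * h⁻¹ * (h * t * h⁻¹) = h * (t * t) * h⁻¹ by group, c.V_sq ht]; group)
    have hzC : z ∈ C := hmC.mpr (by
      have := c.V_abelian h1 h2
      calc z * t = h⁻¹ * ((h * z * h⁻¹) * (h * t * h⁻¹)) * h := by group
        _ = t * z := by rw [this]; group)
    have hzE : z ∈ CE := mul_mem (mul_mem hk htg) (inv_mem hk)
    have hzt : z = t := (hinvol z hzC hzz hzE).resolve_left fun e =>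
      ht1 (conj_eq_one_iff.mp (conj_eq_one_iff.mp e))
    have hkg : k * g ∈ C := hmC.mpr (mul_inv_eq_iff_eq_mul.mp (by
      rw [show k * g * t * (k * g)⁻¹ = z by simp only [hz]; group, hzt]))
    obtain ⟨o, ho, s, hs, hos⟩ := hdec _ hkg
    refine ⟨s, hs, fun a ha => ?_⟩
    have hsa : s * a * s⁻¹ ∈ E := (Subgroup.mem_normalizer_iff.mp (hCN (hSC hs)) a).mp ha
    calc g * a * g⁻¹ = k⁻¹ * ((k * g) * a * (k * g)⁻¹) * k := by group
      _ = k⁻¹ * (o * (s * a * s⁻¹) * o⁻¹) * k := by rw [hos]; group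
      _ = k⁻¹ * (s * a * s⁻¹) * k := by rw [hab o ho _ hsa.1, mul_inv_cancel_right]
      _ = s * a * s⁻¹ := by
        rw [mul_assoc, Subgroup.mem_centralizer_iff.mp hk _ hsa, inv_mul_cancel_left]
  let ν : 𝐒 →* (Additive ↥E ≃ₗ[ZMod p] Additive ↥E) :=
    ((toLin p E).toMonoidHom.comp E.normalizerMonoidHom).comp (Subgroup.inclusion (hSC.trans hCN))
  have hker : ∀ s : 𝐒, ν s = 1 ↔ (s : G) ∈ centralizer (E : Set G) := fun s =>
    linOf_eq_one_iff ⟨(s : G), hCN (hSC s.2)⟩
  have hrange : ∀ f ∈ autzLin p E, ∃ s, ν s = f := by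
    intro f hf
    obtain ⟨g, hgf⟩ := mem_autzLin.mp hf
    obtain ⟨s, hs, hsg⟩ := hred g (mem_normalizer_of_autz (α := (toLin p E).symm f) fun a => hgf a)
    refine ⟨⟨s, hs⟩, LinearEquiv.ext fun x => ?_⟩
    refine Additive.toMul.injective (Subtype.ext ?_)
    exact (hsg _ (Additive.toMul x).2).symm.trans (hgf (Additive.toMul x))
  rcases em (∀ f ∈ autzLin p E, Lin.IsScalar f) with hscal | hscal
  · have hc : _root_.commutator 𝐒 ≤ ν.ker := by
      rw [_root_.commutator_def, Subgroup.commutator_le]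
      intro a _ b _
      rw [MonoidHom.mem_ker, commutatorElement_def, ν.map_mul, ν.map_mul, ν.map_mul, ν.map_inv, ν.map_inv]
      obtain ⟨α, hα⟩ := hscal _ (linOf_mem ⟨(a : G), hCN (hSC a.2)⟩)
      have e : ν a * ν b = ν b * ν a := LinearEquiv.ext fun x => by
        rw [LinearEquiv.mul_apply, LinearEquiv.mul_apply]
        show (ν a) ((ν b) x) = (ν b) ((ν a) x)
        rw [show ∀ y, ν a y = α • y from hα, show ∀ y, ν a y = α • y from hα, map_smul]
      rw [e]; group
    have huker : (⟨u, c.V_le huV⟩ : 𝐒) ∈ ν.ker := by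
      refine hc ?_
      rw [c.hD]
      obtain ⟨y, hy, hyu⟩ := huV
      rwa [show (⟨u, _⟩ : 𝐒) = y from Subtype.ext hyu.symm]
    rcases hVfix u huV ((hker _).mp huker) with e | e
    · exact hu1 e
    · exact htu e.symm
  push Not at hscal
  obtain ⟨f0, hf0, hns⟩ := hscal
  haveI := c.hom.autzLin_normal p E
  have h2p : (2 : ZMod p) ≠ 0 := by
    intro e
    have h2 : ((2 : ℕ) : ZMod p) = 0 := by exact_mod_cast e
    rw [ZMod.natCast_eq_zero_iff] at h2
    exact hp2 ((Nat.prime_dvd_prime_iff_eq hp Nat.prime_two).mp h2)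
  have hd2 : 2 ≤ finrank (ZMod p) (Additive ↥E) := by
    obtain ⟨v, hv⟩ := Lin.exists_li hns
    have h2 : Fintype.card (Fin 2) ≤ finrank (ZMod p) (Additive ↥E) :=
      (by convert @LinearIndependent.fintype_card_le_finrank (ZMod p) (Additive ↥E) _ _ _ _ _ _ _ _ hv)
    simpa using h2
  by_cases hspecial : p = 3 ∧ finrank (ZMod p) (Additive ↥E) = 2
  · obtain ⟨hp3, hd⟩ := hspecial
    have hK : ∀ s : 𝐒, ν s = 1 → (s : G) = 1 ∨ (s : G) = t := by
      intro s hs
      have hsV : (s : G) ∈ 𝐕 := c.nondeg ht ht1 s.2 fun x hx => by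
        refine hVfix _ (c.comm_mem hx s.2) ?_
        refine (hker (⟨x, hx⟩ * s * ⟨x, hx⟩⁻¹ * s⁻¹)).mp ?_
        rw [ν.map_mul, ν.map_mul, ν.map_mul, ν.map_inv, ν.map_inv, hs]; group
      exact hVfix _ hsV ((hker s).mp hs)
    have h1 : Nat.card ν.ker ≤ 2 := by
      refine (Nat.card_le_card_of_injective (β := Fin 2) (fun s : ν.ker => if (s : 𝐒) = 1 then 0 else 1) ?_).trans_eq
        (Nat.card_fin 2)
      intro a b e
      simp only at e
      split_ifs at e with ha hb <;> try exact absurd e (by decide)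
      · exact Subtype.ext (ha.trans hb.symm)
      · rename_i hb
        refine Subtype.ext (Subtype.ext ?_)
        rw [(hK _ a.2).resolve_left fun e => ha (Subtype.ext e), (hK _ b.2).resolve_left fun e => hb (Subtype.ext e)]
    have h2 : Nat.card ν.ker * Nat.card ν.range = 64 := by
      rw [← Nat.card_congr (QuotientGroup.quotientKerEquivRange ν).toEquiv, mul_comm,
        ← Subgroup.card_eq_card_quotient_mul_card_subgroup, c.c64]
    have h32 : 32 ∣ Nat.card (Additive ↥E ≃ₗ[ZMod p] Additive ↥E) := by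
      refine dvd_trans ?_ (Subgroup.card_subgroup_dvd_card ν.range)
      have : 0 < Nat.card ν.ker := Nat.card_pos
      interval_cases h : Nat.card ν.ker <;> omega
    obtain ⟨B⟩ : Nonempty (Basis (Fin 2) (ZMod p) (Additive ↥E)) := ⟨Module.finBasisOfFinrankEq _ _ hd⟩
    have hB : B.coord 0 (B 1) = 0 := by simp
    have hτ : orderOf (LinearEquiv.transvection hB) = p := by
      refine orderOf_eq_prime (B.ext' fun i => ?_) fun e => ?_
      · fin_cases i
        · show (LinearEquiv.transvection hB ^ p) (B 0) = B 0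
          rw [tv_pow_apply hB (by simp), ZMod.natCast_self, zero_smul, add_zero]
        · show (LinearEquiv.transvection hB ^ p) (B 1) = B 1
          have h1k : ∀ k : ℕ, (LinearEquiv.transvection hB ^ k) (B 1) = B 1 := fun k => by
            induction k with
            | zero => rfl
            | succ k ih => rw [pow_succ, LinearEquiv.mul_apply, LinearEquiv.transvection.apply, hB, zero_smul, add_zero, ih]
          exact h1k p
      · have := LinearEquiv.congr_fun e (B 0)
        rw [← pow_one (LinearEquiv.transvection hB), tv_pow_apply hB (by simp), Nat.cast_one, one_smul,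
          Lin.one_app, add_eq_left] at this
        exact B.ne_zero 1 this
    haveI : Finite (Additive ↥E ≃ₗ[ZMod p] Additive ↥E) :=
      Finite.of_injective (fun g i => g (B i)) fun g g' e => B.ext' (congrFun e)
    have h3 : 3 ∣ Nat.card (Additive ↥E ≃ₗ[ZMod p] Additive ↥E) :=
      (dvd_of_eq (hτ.trans hp3).symm).trans (_root_.orderOf_dvd_natCard _)
    have h81 := Nat.card_le_card_of_injective (fun (g : Additive ↥E ≃ₗ[ZMod p] Additive ↥E) i => g (B i))
      fun g g' e => B.ext' (congrFun e)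
    rw [Nat.card_fun, Nat.card_congr (Additive.toMul (α := ↥E)), card_eq (p := p) (E := E), hd, Nat.card_fin] at h81
    have h81' : (p ^ 2) ^ 2 = 81 := by rw [hp3]; norm_num
    have h96 := Nat.le_of_dvd Nat.card_pos (Nat.Coprime.mul_dvd_of_dvd_of_dvd (by norm_num) h32 h3)
    omega
  obtain ⟨f, v, h, hf, hv, hmem⟩ : ∃ (f : Dual (ZMod p) (Additive ↥E)) (v : Additive ↥E) (h : f v = 0),
      f ≠ 0 ∧ v ≠ 0 ∧ LinearEquiv.transvection h ∈ autzLin p E := by
    rcases eq_or_lt_of_le hd2 with hd | hd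
    · refine Lin.exists_tv_of_two hd.symm h2p (fun e => hspecial ⟨?_, hd.symm⟩) hf0 hns
      have h2 : ((3 : ℕ) : ZMod p) = 0 := by exact_mod_cast e
      rw [ZMod.natCast_eq_zero_iff] at h2
      exact (Nat.prime_dvd_prime_iff_eq hp Nat.prime_three).mp h2
    · exact Lin.exists_tv_of_three hd hf0 hns
  obtain ⟨s, hs⟩ := hrange _ hmem
  obtain ⟨x, hx⟩ : ∃ x, f x = 1 := by
    obtain ⟨z, hz⟩ : ∃ z, f z ≠ 0 := by
      by_contra hc; push Not at hc; exact hf (LinearMap.ext hc)
    exact ⟨(f z)⁻¹ • z, by rw [map_smul, smul_eq_mul, inv_mul_cancel₀ hz]⟩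
  have h64 : LinearEquiv.transvection h ^ 64 = 1 := by
    rw [← hs, ← map_pow, ← c.c64, pow_card_eq_one', map_one]
  have := LinearEquiv.congr_fun h64 x
  rw [tv_pow_apply h hx, Lin.one_app, add_eq_left, smul_eq_zero] at this
  refine hv (this.resolve_left ?_)
  rw [show (64 : ℕ) = 2 ^ 6 by norm_num, Nat.cast_pow]
  exact pow_ne_zero _ (by exact_mod_cast h2p)

end Ctx

end CfsgLib.Homogeneous.Unitary
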