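import Cfsg.Agent.Lib.Homogeneous.Unitary.CentInv

/-!
The normalizer of the centre has order 192, and every other coset of it contains exactly three involutions.
-/

set_option autoImplicit false

namespace CfsgLib.Homogeneous.Unitary

open Cfsg Subgroup

universe u

variable {G : Type u} [Group G] [Finite G]

namespace Ctx

variable (c : Ctx G) [IsSimpleGroup G]

local notation "𝐒" => (Sylow.toSubgroup (Ctx.S c))
local notation "𝐕" => Ctx.V c
local notation "NV" => Subgroup.normalizer ((Ctx.V c : Subgroup G) : Set G)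
local notation "CV" => Subgroup.centralizer ((Ctx.V c : Subgroup G) : Set G)
local notation "NS" => Subgroup.normalizer (((Sylow.toSubgroup (Ctx.S c)) : Subgroup G) : Set G)

theorem NV_le_NS : NV ≤ NS := fun y hy => CfsgA8C.mem_normalizer_of_le fun s hs => by
  rw [← c.CV_eq] at hs ⊢; exact c.CV_conj hs hy

theorem eq_one_of_mem_S {x : G} (hx : x ∈ 𝐒) (ho : Odd (orderOf x)) : x = 1 := by
  have h1 : orderOf x ∣ 2 ^ 6 := by
    rw [← Subgroup.orderOf_mk x hx, show 2 ^ 6 = Nat.card 𝐒 by rw [c.c64]; norm_num]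
    exact _root_.orderOf_dvd_natCard _
  exact orderOf_eq_one_iff.mp
    (Nat.Coprime.eq_one_of_dvd ((Nat.coprime_two_right.mpr ho).pow_right 6) h1)

theorem rot_order {n : G} (hn : c.Rot n) : orderOf n = 3 := by
  have h3 : n ^ 3 = 1 := by
    have h := hn.cube_mem c
    rw [c.CV_eq] at h
    exact c.eq_one_of_mem_S h (hn.odd.of_dvd_nat (orderOf_pow_dvd 3))
  haveI := Fact.mk Nat.prime_three
  exact orderOf_eq_prime h3 fun e => hn.not_cent (e ▸ one_mem _)

theorem card_NV : Nat.card NV = 192 := by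
  obtain ⟨n, hnS, hn⟩ := c.exists_rot
  have hSN : 𝐒 ≤ NV := c.S_le_CV.trans c.CV_le_NV
  let F : Fin 3 × 𝐒 → NV := fun p => ⟨n ^ (p.1 : ℕ) * p.2, mul_mem (Subgroup.pow_mem _ hn.mem _) (hSN p.2.2)⟩
  have hF : Function.Bijective F := by
    refine ⟨?_, fun y => ?_⟩
    · rintro ⟨i, s⟩ ⟨j, t⟩ e
      have e1 : n ^ (i : ℕ) * s = n ^ (j : ℕ) * t := congrArg Subtype.val e
      have hij : (i : ℕ) = j := by
        have e2 : (n ^ (j : ℕ))⁻¹ * n ^ (i : ℕ) = (t : G) * (s : G)⁻¹ := by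
          rw [eq_mul_inv_iff_mul_eq, mul_assoc, e1, inv_mul_cancel_left]
        have h1 : n ^ ((i : ℤ) - j) = 1 := by
          refine c.eq_one_of_mem_S ?_ (hn.odd.of_dvd_nat ?_)
          · rw [zpow_sub, zpow_natCast, zpow_natCast, ← (Commute.pow_pow_self n i j).inv_right.eq.symm, e2]
            exact 𝐒.mul_mem t.2 (𝐒.inv_mem s.2)
          · exact orderOf_dvd_of_pow_eq_one (by
              rw [← zpow_natCast, ← zpow_mul, mul_comm, zpow_mul, zpow_natCast, pow_orderOf_eq_one, one_zpow])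
        have h2 := orderOf_dvd_iff_zpow_eq_one.mpr h1
        rw [c.rot_order hn] at h2
        have := i.2; have := j.2
        omega
      obtain rfl := Fin.ext hij
      exact Prod.ext rfl (Subtype.ext (mul_left_cancel e1))
    · obtain ⟨z, hz, i, hi, e⟩ := hn.decomp c y.2
      rw [c.CV_eq] at hz
      exact ⟨(⟨i, hi⟩, ⟨z, hz⟩), Subtype.ext e.symm⟩
  rw [← Nat.card_eq_of_bijective F hF, Nat.card_prod, Nat.card_fin, c.c64]

theorem invol_mem_NV {x : G} (hx : x ∈ NV) (h : x * x = 1) : x ∈ 𝐕 := by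
  refine c.invol_mem ?_ h
  rw [← c.CV_eq]
  exact c.two_mem_CV (k := 1) hx (by rw [pow_one, pow_two, h])

/-- An element moving an involution of the centre into the centre normalizes it. -/
theorem mem_NV_of_conj {v y : G} (hv : v ∈ 𝐕) (hv1 : v ≠ 1) (h : y * v * y⁻¹ ∈ 𝐕) : y ∈ NV := by
  refine c.N_S_le (CfsgA8C.mem_normalizer_of_le fun s hs => ?_)
  rw [← c.cent_eq h (fun e => hv1 (conj_eq_one_iff.mp e))]
  rw [← c.cent_eq hv hv1, Subgroup.mem_centralizer_singleton_iff] at hs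
  refine Subgroup.mem_centralizer_singleton_iff.mpr ?_
  calc y * s * y⁻¹ * (y * v * y⁻¹) = y * (s * v) * y⁻¹ := by group
    _ = y * v * y⁻¹ * (y * s * y⁻¹) := by rw [hs]; group

theorem invol_conj {x t : G} (ht : t ∈ 𝐕) (ht1 : t ≠ 1) (h : x * x = 1) (h1 : x ≠ 1) : ∃ g, g * t * g⁻¹ = x := by
  obtain ⟨g, hg⟩ := exists_conj_le c.S (two_elem_isPGroup (k := 1) (by rw [pow_one, pow_two, h]) :
    IsPGroup 2 (zpowers x))
  have hw : g * x * g⁻¹ ∈ 𝐕 := c.invol_mem (hg x (mem_zpowers x)) (by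
    rw [show g * x * g⁻¹ * (g * x * g⁻¹) = g * (x * x) * g⁻¹ by group, h]; group)
  obtain ⟨n, -, hn⟩ := c.exists_rot
  rcases hn.cover c ht ht1 hw (fun e => h1 (conj_eq_one_iff.mp e)) with e | e | e
  · exact ⟨g⁻¹, by rw [← e]; group⟩
  · exact ⟨g⁻¹ * n, by rw [show g⁻¹ * n * t * (g⁻¹ * n)⁻¹ = g⁻¹ * (n * t * n⁻¹) * g by group, ← e]; group⟩
  · exact ⟨g⁻¹ * (n * n), by
      rw [show g⁻¹ * (n * n) * t * (g⁻¹ * (n * n))⁻¹ = g⁻¹ * (n * (n * t * n⁻¹) * n⁻¹) * g by group, ← e]; group⟩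

include c in
theorem card_invol : 64 * Nat.card {x : G // x * x = 1 ∧ x ≠ 1} = Nat.card G := by
  obtain ⟨t, ht, ht1⟩ := c.exists_ne_one
  let F : G ⧸ 𝐒 → {x : G // x * x = 1 ∧ x ≠ 1} := fun q => ⟨q.out * t * q.out⁻¹,
    by rw [show q.out * t * q.out⁻¹ * (q.out * t * q.out⁻¹) = q.out * (t * t) * q.out⁻¹ by group, c.V_sq ht]; group,
    fun e => ht1 (conj_eq_one_iff.mp e)⟩
  have hF : Function.Bijective F := by
    refine ⟨fun q r e => ?_, fun ⟨x, hx, hx1⟩ => ?_⟩
    · rw [← QuotientGroup.out_eq' q, ← QuotientGroup.out_eq' r, QuotientGroup.eq]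
      refine (c.cent_eq ht ht1).le (Subgroup.mem_centralizer_singleton_iff.mpr ?_)
      have e1 : q.out * t * q.out⁻¹ = r.out * t * r.out⁻¹ := congrArg Subtype.val e
      calc q.out⁻¹ * r.out * t = q.out⁻¹ * (r.out * t * r.out⁻¹) * r.out := by group
        _ = t * (q.out⁻¹ * r.out) := by rw [← e1]; group
    · obtain ⟨g, hg⟩ := c.invol_conj ht ht1 hx hx1
      refine ⟨(g : G ⧸ 𝐒), Subtype.ext ?_⟩
      obtain ⟨⟨s, hs⟩, e⟩ := QuotientGroup.mk_out_eq_mul 𝐒 g
      show (g : G ⧸ 𝐒).out * t * (g : G ⧸ 𝐒).out⁻¹ = x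
      rw [e, show g * s * t * (g * s)⁻¹ = g * (s * t * s⁻¹) * g⁻¹ by group, c.V_comm ht hs, mul_inv_cancel_right, hg]
  rw [← Nat.card_eq_of_bijective F hF, Subgroup.card_eq_card_quotient_mul_card_subgroup 𝐒, c.c64, mul_comm]

/-- The intersection of the normalizer with its conjugate. -/
def D (u : G) : Subgroup G := NV ⊓ Subgroup.comap (MulAut.conj u).toMonoidHom NV

theorem D_card {u : G} (hu : u ∉ NV) : Nat.card (c.D u) ∣ 3 := by
  haveI := Fact.mk Nat.prime_two
  have hd : Nat.card (c.D u) ∣ 2 ^ 6 * 3 := by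
    rw [show 2 ^ 6 * 3 = Nat.card NV by rw [c.card_NV]; norm_num]
    exact Subgroup.card_dvd_of_le inf_le_left
  refine Nat.Coprime.dvd_of_dvd_mul_left (Nat.Coprime.pow_right 6 (Nat.coprime_two_right.mpr ?_)) hd
  rw [← Nat.not_even_iff_odd, even_iff_two_dvd]
  intro h2
  obtain ⟨⟨x, hx⟩, ho⟩ := exists_prime_orderOf_dvd_card' 2 h2
  rw [Subgroup.orderOf_mk] at ho
  have hxx : x * x = 1 := by rw [← pow_two, ← ho, pow_orderOf_eq_one]
  have hx1 : x ≠ 1 := fun e => by rw [e, orderOf_one] at ho; norm_num at ho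
  refine hu (c.mem_NV_of_conj (c.invol_mem_NV hx.1 hxx) hx1 (c.invol_mem_NV hx.2 ?_))
  show u * x * u⁻¹ * (u * x * u⁻¹) = 1
  rw [show u * x * u⁻¹ * (u * x * u⁻¹) = u * (x * x) * u⁻¹ by group, hxx]; group

/-- Every other coset contains an involution whose intersection has order three and is inverted by it. -/
theorem coset_invol {g : G} (hg : g ∉ NV) : ∃ u, u * u = 1 ∧ u ∉ NV ∧ g⁻¹ * u ∈ NV ∧ Nat.card (c.D u) = 3 ∧
    ∀ d ∈ c.D u, u * d * u⁻¹ = d⁻¹ := by
  classical
  let A := {x : G // (x * x = 1 ∧ x ≠ 1) ∧ x ∉ NV}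
  let B := {q : G ⧸ NV // q ≠ ((1 : G) : G ⧸ NV)}
  let π : A → B := fun x => ⟨((x : G) : G ⧸ NV), fun e => x.2.2 (by
    have := QuotientGroup.eq.mp e.symm
    simpa using this)⟩
  haveI := Fintype.ofFinite A
  haveI := Fintype.ofFinite B
  -- a coset holds at most three involutions
  have hinto : ∀ a x : A, π x = π a →
      (a : G) * x ∈ c.D a ∧ (a : G) * ((a : G) * x) * (a : G)⁻¹ = ((a : G) * x)⁻¹ := by
    intro a x e
    have hm : (a : G) * x ∈ NV := by
      have := QuotientGroup.eq.mp (congrArg Subtype.val e).symm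
      rwa [inv_eq_of_mul_eq_one_right a.2.1.1] at this
    have ha := inv_eq_of_mul_eq_one_right a.2.1.1
    have hx := inv_eq_of_mul_eq_one_right x.2.1.1
    have e1 : (a : G) * ((a : G) * x) * (a : G)⁻¹ = ((a : G) * x)⁻¹ := by
      rw [mul_inv_rev, hx, ha, ← mul_assoc (a : G) a, a.2.1.1, one_mul]
    refine ⟨⟨hm, ?_⟩, e1⟩
    show (a : G) * ((a : G) * x) * (a : G)⁻¹ ∈ NV
    rw [e1]; exact inv_mem hm
  have hle : ∀ b : B, Fintype.card {x : A // π x = b} ≤ 3 := by
    intro b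
    by_cases hne : Nonempty {x : A // π x = b}
    · obtain ⟨a, ha⟩ := hne
      rw [← Nat.card_eq_fintype_card]
      refine le_trans (Nat.card_le_card_of_injective (β := c.D a)
        (fun x => ⟨(a : G) * (x : A), (hinto a x (x.2.trans ha.symm)).1⟩) fun x y e => ?_)
        (Nat.le_of_dvd (by norm_num) (c.D_card a.2.2))
      exact Subtype.ext (Subtype.ext (mul_left_cancel (congrArg Subtype.val e)))
    · simp only [not_nonempty_iff] at hne
      simp
  -- in total there are three for each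
  have hA : Nat.card A + 3 = 3 * Nat.card (G ⧸ NV) := by
    have h1 : Nat.card A + Nat.card {x : G // (x * x = 1 ∧ x ≠ 1) ∧ x ∈ NV} = Nat.card {x : G // x * x = 1 ∧ x ≠ 1} := by
      rw [← Nat.card_sum]
      refine Nat.card_congr ((Equiv.sumComm _ _).trans ?_)
      exact (Equiv.sumCongr (Equiv.subtypeSubtypeEquivSubtypeInter _ _).symm
        (Equiv.subtypeSubtypeEquivSubtypeInter (fun x : G => x * x = 1 ∧ x ≠ 1) fun x => x ∉ NV).symm).trans
        (Equiv.sumCompl fun x : {x : G // x * x = 1 ∧ x ≠ 1} => (x : G) ∈ NV)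
    have h3 : Nat.card {x : G // (x * x = 1 ∧ x ≠ 1) ∧ x ∈ NV} = 3 := by
      have e : {x : G // (x * x = 1 ∧ x ≠ 1) ∧ x ∈ NV} ≃ {v : 𝐕 // v ≠ 1} :=
        { toFun := fun x => ⟨⟨x, c.invol_mem_NV x.2.2 x.2.1.1⟩, fun e => x.2.1.2 (congrArg Subtype.val e)⟩
          invFun := fun v => ⟨(v : 𝐕), ⟨c.V_sq v.1.2, fun e => v.2 (Subtype.ext e)⟩, Subgroup.le_normalizer v.1.2⟩
          left_inv := fun x => rfl
          right_inv := fun v => rfl }
      haveI := Fintype.ofFinite 𝐕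
      rw [Nat.card_congr e, Nat.card_eq_fintype_card, Fintype.card_subtype_compl, Fintype.card_subtype_eq,
        ← Nat.card_eq_fintype_card, c.card_V]
    have h64 := c.card_invol
    rw [Subgroup.card_eq_card_quotient_mul_card_subgroup NV, c.card_NV] at h64
    omega
  have hB : Nat.card B + 1 = Nat.card (G ⧸ NV) := by
    haveI := Fintype.ofFinite (G ⧸ NV)
    rw [Nat.card_eq_fintype_card, Nat.card_eq_fintype_card, Fintype.card_subtype_compl, Fintype.card_subtype_eq]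
    have : 0 < Fintype.card (G ⧸ NV) := Fintype.card_pos
    omega
  have hsum : ∑ b : B, Fintype.card {x : A // π x = b} = ∑ _b : B, 3 := by
    rw [← Fintype.card_sigma, Fintype.card_congr (Equiv.sigmaFiberEquiv π), Finset.sum_const, Finset.card_univ,
      smul_eq_mul, ← Nat.card_eq_fintype_card, ← Nat.card_eq_fintype_card]
    omega
  let b0 : B := ⟨(g : G ⧸ NV), fun e => hg (by
    have := QuotientGroup.eq.mp e.symm
    simpa using this)⟩
  have h0 := (Finset.sum_eq_sum_iff_of_le fun b _ => hle b).mp hsum b0 (Finset.mem_univ _)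
  obtain ⟨a, ha⟩ : Nonempty {x : A // π x = b0} := Fintype.card_pos_iff.mp (by omega)
  have hD := Nat.le_of_dvd (by norm_num) (c.D_card a.2.2)
  let ι : {x : A // π x = b0} → {d : c.D a // (a : G) * d * (a : G)⁻¹ = (d : G)⁻¹} :=
    fun x => ⟨⟨(a : G) * (x : A), (hinto a x (x.2.trans ha.symm)).1⟩, (hinto a x (x.2.trans ha.symm)).2⟩
  have hι : Function.Injective ι := fun x y e =>
    Subtype.ext (Subtype.ext (mul_left_cancel (congrArg (fun z => ((z.1 : c.D a) : G)) e)))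
  have h5 := Nat.card_le_card_of_injective ι hι
  rw [Nat.card_eq_fintype_card, h0] at h5
  have h6 := Nat.card_le_card_of_injective
    (fun z : {d : c.D a // (a : G) * d * (a : G)⁻¹ = (d : G)⁻¹} => (z : c.D a)) Subtype.val_injective
  refine ⟨a, a.2.1.1, a.2.2, ?_, by omega, fun d hd => ?_⟩
  · have := QuotientGroup.eq.mp (congrArg Subtype.val ha).symm
    simpa using this
  · obtain ⟨⟨z, hz⟩, e⟩ := ((Nat.bijective_iff_injective_and_card
      (fun z : {d : c.D a // (a : G) * d * (a : G)⁻¹ = (d : G)⁻¹} => (z : c.D a))).mpr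
      ⟨Subtype.val_injective, by omega⟩).2 ⟨d, hd⟩
    obtain rfl : z = ⟨d, hd⟩ := e
    exact hz

end Ctx

end CfsgLib.Homogeneous.Unitary
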