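import Cfsg.Agent.Lib.Homogeneous.Unitary.Setup

/-!
The commutator map has no radical, odd elements fixing the centre fix the Sylow subgroup, and the centralizer
of the centre is the Sylow subgroup times an odd normal subgroup.
-/

set_option autoImplicit false

namespace CfsgLib.Homogeneous.Unitary

open Cfsg Subgroup

universe u

variable {G : Type u} [Group G]

/-- The commutator. -/
def cm (x a : G) : G := x * a * x⁻¹ * a⁻¹

theorem decomp2 [Finite G] (n : G) :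
    ∃ k m : ℕ, (n ^ m) ^ 2 ^ k = 1 ∧ Odd (orderOf (n ^ 2 ^ k)) ∧
      ∃ A B : ℤ, n = (n ^ m) ^ B * (n ^ 2 ^ k) ^ A := by
  obtain ⟨k, m, hm, he, h2, ho⟩ := odd_part n
  have hc : Nat.gcd (2 ^ k) m = 1 := (Nat.coprime_two_left.mpr hm).pow_left k
  have h := Nat.gcd_eq_gcd_ab (2 ^ k) m
  rw [hc] at h
  refine ⟨k, m, h2, ho, Nat.gcdA (2 ^ k) m, Nat.gcdB (2 ^ k) m, ?_⟩
  rw [← zpow_natCast n m, ← zpow_natCast n (2 ^ k), ← zpow_mul, ← zpow_mul, ← zpow_add, add_comm,
    show ((2 ^ k : ℕ) : ℤ) * Nat.gcdA (2 ^ k) m + (m : ℤ) * Nat.gcdB (2 ^ k) m = 1 by simpa using h.symm, zpow_one]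

namespace Ctx

variable (c : Ctx G)

local notation "𝐒" => (Sylow.toSubgroup (Ctx.S c))
local notation "𝐕" => Ctx.V c
local notation "NV" => Subgroup.normalizer ((Ctx.V c : Subgroup G) : Set G)
local notation "CV" => Subgroup.centralizer ((Ctx.V c : Subgroup G) : Set G)
local notation "NS" => Subgroup.normalizer (((Sylow.toSubgroup (Ctx.S c)) : Subgroup G) : Set G)

theorem cm_left {x y a : G} (hx : x ∈ 𝐒) (hy : y ∈ 𝐒) (ha : a ∈ 𝐒) : cm (x * y) a = cm x a * cm y a := by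
  have h : x * cm y a = cm y a * x := c.V_comm (c.comm_mem hy ha) hx
  have h' : cm x a * cm y a = cm y a * cm x a := c.V_abelian (c.comm_mem hx ha) (c.comm_mem hy ha)
  rw [h']
  calc cm (x * y) a = (x * cm y a) * (a * x⁻¹ * a⁻¹) := by simp only [cm]; group
    _ = cm y a * cm x a := by rw [h]; simp only [cm]; group

theorem cm_right {x a b : G} (hx : x ∈ 𝐒) (ha : a ∈ 𝐒) (hb : b ∈ 𝐒) : cm x (a * b) = cm x a * cm x b := by
  have h : a * cm x b = cm x b * a := c.V_comm (c.comm_mem hx hb) ha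
  calc cm x (a * b) = x * a * x⁻¹ * (cm x b * a⁻¹) := by simp only [cm]; group
    _ = cm x a * (a * cm x b * a⁻¹) := by simp only [cm]; group
    _ = cm x a * cm x b := by rw [h]; group

theorem cm_one {x : G} : cm x 1 = 1 := by simp [cm]

theorem cm_V {x v : G} (hx : x ∈ 𝐒) (hv : v ∈ 𝐕) : cm x v = 1 := by
  rw [cm, c.V_comm hv hx]; group

theorem cm_V' {x v : G} (hx : x ∈ 𝐒) (hv : v ∈ 𝐕) : cm v x = 1 := by
  rw [cm, ← c.V_comm hv hx]; group

omit c in
theorem cm_conj (n x a : G) : cm (n * x * n⁻¹) (n * a * n⁻¹) = n * cm x a * n⁻¹ := by simp only [cm]; group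

theorem eq_one_of_two {v w y : G} (hvw : v ≠ w) (h1 : y = 1 ∨ y = v) (h2 : y = 1 ∨ y = w) : y = 1 := by
  rcases h1 with h1 | h1
  · exact h1
  · exact h2.resolve_right fun h => hvw (h1.symm.trans h)

variable [Finite G]

/-- A two-element of the normalizer of the Sylow subgroup lies in it. -/
theorem two_mem_S {y : G} {k : ℕ} (hy : y ∈ NS) (h : y ^ 2 ^ k = 1) : y ∈ 𝐒 := by
  have hp : IsPGroup 2 ↥(zpowers y ⊔ 𝐒) :=
    IsPGroup.to_sup_of_normal_right' (two_elem_isPGroup h) c.S.2 (Subgroup.zpowers_le.mpr hy)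
  rw [← c.S.3 hp le_sup_right]
  exact Subgroup.mem_sup_left (Subgroup.mem_zpowers y)

theorem conj_S {y x : G} (hy : y ∈ NS) (hx : x ∈ 𝐒) : y * x * y⁻¹ ∈ 𝐒 :=
  (Subgroup.mem_normalizer_iff.mp hy x).mp hx

/-- A rotation normalizing the Sylow subgroup fixes no coset of the centre. -/
theorem fixmod {n x : G} (hn : c.Rot n) (hx : x ∈ 𝐒) (h : x⁻¹ * (n * x * n⁻¹) ∈ 𝐕) : x ∈ 𝐕 := by
  set v := x⁻¹ * (n * x * n⁻¹) with hv
  have e : n * x * n⁻¹ = x * v := by simp only [hv]; group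
  refine c.invol_mem hx (by_contra fun hne => hn.no_fix c (c.sq_mem hx) hne ?_)
  calc n * (x * x) * n⁻¹ = (n * x * n⁻¹) * (n * x * n⁻¹) := by group
    _ = x * (v * x) * v := by rw [e]; group
    _ = x * x * (v * v) := by rw [← c.V_comm h hx]; group
    _ = x * x := by rw [c.V_sq h, mul_one]

variable [IsSimpleGroup G]

/-- The radical of each composite form is the centre. -/
theorem nondeg {v : G} (hv : v ∈ 𝐕) (hv1 : v ≠ 1) {a : G} (ha : a ∈ 𝐒)
    (h : ∀ x ∈ 𝐒, cm x a = 1 ∨ cm x a = v) : a ∈ 𝐕 := by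
  classical
  obtain ⟨n, hnS, hn⟩ := c.exists_rot
  by_contra haV
  set w := n * v * n⁻¹ with hw
  set u := n * w * n⁻¹ with hu
  have hwV : w ∈ 𝐕 := c.conj_V hn.mem hv
  have hw1 : w ≠ 1 := fun e => hv1 (conj_eq_one_iff.mp e)
  have hvw : v ≠ w := fun e => hn.no_fix c hv hv1 e.symm
  have huV : u ∈ 𝐕 := c.conj_V hn.mem hwV
  have hvu : v ≠ u := fun e => hn.no_fix2 c hv hv1 e.symm
  have hwu : w ≠ u := fun e => hn.no_fix c hwV hw1 e.symm
  have hu_eq : u = v * w := (hn.cube c hv hv1).1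
  have hnu : n * u * n⁻¹ = v := (hn.cube c hv hv1).2
  -- the radicals
  let R : G → G → Prop := fun z b => b ∈ 𝐒 ∧ ∀ x ∈ 𝐒, cm x b = 1 ∨ cm x b = z
  have hRn : ∀ {z b}, R z b → R (n * z * n⁻¹) (n * b * n⁻¹) := by
    rintro z b ⟨hb, hb'⟩
    refine ⟨c.conj_S hnS hb, fun x hx => ?_⟩
    have hx' : n⁻¹ * x * n ∈ 𝐒 := (Subgroup.mem_normalizer_iff''.mp hnS x).mp hx
    have e : cm x (n * b * n⁻¹) = n * cm (n⁻¹ * x * n) b * n⁻¹ := by
      rw [← cm_conj]; congr 1; group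
    rcases hb' _ hx' with e' | e' <;> rw [e, e']
    · left; group
    · exact Or.inr rfl
  have hRV : ∀ {z z' b}, z ≠ z' → R z b → R z' b → b ∈ 𝐕 := by
    rintro z z' b hne ⟨hb, h1⟩ ⟨-, h2⟩
    refine c.mem_V.mpr ⟨hb, fun x hx => ?_⟩
    have := eq_one_of_two hne (h1 x hx) (h2 x hx)
    rwa [cm, mul_inv_eq_one, mul_inv_eq_iff_eq_mul] at this
  have hcomm : ∀ {z z' b b'}, z ≠ z' → R z b → R z' b' → cm b b' = 1 := by
    rintro z z' b b' hne ⟨hb, h1⟩ ⟨hb', h2⟩
    refine eq_one_of_two hne ?_ (h2 b hb)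
    have e : cm b b' = (cm b' b)⁻¹ := by simp only [cm]; group
    rw [e]
    rcases h1 b' hb' with e' | e' <;> rw [e']
    · left; group
    · have hz : z ∈ 𝐕 := e' ▸ c.comm_mem hb' hb
      exact Or.inr (c.V_inv hz)
  have hab : R v a := ⟨ha, h⟩
  set b := n * a * n⁻¹ with hb
  set d := n * b * n⁻¹ with hd
  have hbR : R w b := hRn hab
  have hdR : R u d := hRn hbR
  have hbV : b ∉ 𝐕 := fun e => haV (by
    have := (Subgroup.mem_normalizer_iff.mp hn.mem a).mpr e; exact this)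
  have hdV : d ∉ 𝐕 := fun e => hbV ((Subgroup.mem_normalizer_iff.mp hn.mem b).mpr e)
  by_cases hbig : ∃ a', R v a' ∧ a' ∉ 𝐕 ∧ a⁻¹ * a' ∉ 𝐕
  · -- two radicals generate
    obtain ⟨a', ha', ha'V, haa'⟩ := hbig
    set b' := n * a' * n⁻¹
    have hb'R : R w b' := hRn ha'
    have hRmul : ∀ {z p q}, z ∈ 𝐕 → R z p → R z q → R z (p * q) := by
      rintro z p q hz ⟨hp, h1⟩ ⟨hq, h2⟩
      refine ⟨𝐒.mul_mem hp hq, fun x hx => ?_⟩
      rw [c.cm_right hx hp hq]
      rcases h1 x hx with e | e <;> rcases h2 x hx with e' | e' <;> rw [e, e']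
      · exact Or.inl (one_mul 1)
      · exact Or.inr (one_mul z)
      · exact Or.inr (mul_one z)
      · exact Or.inl (c.V_sq hz)
    let P : Fin 4 → G := ![1, a, a', a * a']
    let Q : Fin 4 → G := ![1, b, b', b * b']
    have hP : ∀ i, R v (P i) := by
      intro i; fin_cases i
      · exact ⟨one_mem _, fun x _ => Or.inl cm_one⟩
      · exact hab
      · exact ha'
      · exact hRmul hv hab ha'
    have hQ : ∀ i, R w (Q i) := by
      intro i; fin_cases i
      · exact ⟨one_mem _, fun x _ => Or.inl cm_one⟩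
      · exact hbR
      · exact hb'R
      · exact hRmul hwV hbR hb'R
    have hRinv : ∀ {z p}, R z p → R z p⁻¹ := by
      rintro z p ⟨hp, h1⟩
      refine ⟨𝐒.inv_mem hp, fun x hx => ?_⟩
      have e := c.cm_right hx hp (𝐒.inv_mem hp)
      rw [mul_inv_cancel, cm_one] at e
      rw [eq_inv_of_mul_eq_one_right e.symm]
      rcases h1 x hx with e' | e' <;> rw [e']
      · left; group
      · exact Or.inr (c.V_inv (e' ▸ c.comm_mem hx hp))
    have hPi : ∀ i j, (P i)⁻¹ * P j ∈ 𝐕 → i = j := by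
      have sq : a * a ∈ 𝐕 := c.sq_mem ha
      have sq' : a' * a' ∈ 𝐕 := c.sq_mem ha'.1
      have f : ∀ {p : G}, p ∈ 𝐕 → p⁻¹ ∈ 𝐕 := fun h => 𝐕.inv_mem h
      intro i j hij
      fin_cases i <;> fin_cases j <;> simp [P] at hij ⊢
      · exact absurd hij haV
      · exact absurd hij ha'V
      · exact absurd (by
          have := 𝐕.mul_mem (f sq) hij
          simpa [mul_assoc] using this) haa'
      · exact absurd hij haV
      · exact absurd hij haa'
      · exact absurd hij ha'V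
      · exact absurd hij ha'V
      · exact absurd (by
          have := f hij
          simpa [mul_assoc] using this) haa'
      · exact absurd (by
          have e : a'⁻¹ * (a * a') = a * (a⁻¹ * a'⁻¹ * a * a') := by group
          rw [e] at hij
          have hc : a⁻¹ * a'⁻¹ * a * a' ∈ 𝐕 := by
            have := c.comm_mem (𝐒.inv_mem ha) (𝐒.inv_mem ha'.1)
            simpa [mul_assoc] using this
          exact (𝐕.mul_mem_cancel_right hc).mp hij) haV
      · have h1 := f hij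
        simp only [mul_inv_rev, inv_inv] at h1
        exact absurd (by
          have := 𝐕.mul_mem (f sq) h1
          simpa [mul_assoc] using this) haa'
      · exact absurd hij ha'V
      · refine absurd (inv_mem_iff.mp (?_ : a⁻¹ ∈ 𝐕)) haV
        rw [show a⁻¹ = a' * (a'⁻¹ * a⁻¹ * a') * a'⁻¹ by group, c.V_comm hij ha'.1, mul_inv_cancel_right]
        exact hij
    have hQP : ∀ i, Q i = n * P i * n⁻¹ := by
      intro i; fin_cases i <;> simp [P, Q, b, b', mul_assoc]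
    have hQi : ∀ i j, (Q i)⁻¹ * Q j ∈ 𝐕 → i = j := fun i j hij => hPi i j (by
      rw [hQP, hQP] at hij
      refine (Subgroup.mem_normalizer_iff.mp hn.mem _).mpr ?_
      convert hij using 1
      group)
    let F : Fin 4 × Fin 4 → 𝐒 ⧸ Subgroup.center 𝐒 := fun p =>
      QuotientGroup.mk (⟨P p.1 * Q p.2, 𝐒.mul_mem (hP p.1).1 (hQ p.2).1⟩ : 𝐒)
    have hF : Function.Injective F := by
      rintro ⟨i, j⟩ ⟨i', j'⟩ e
      have e1 : (P i * Q j)⁻¹ * (P i' * Q j') ∈ 𝐕 := ⟨_, QuotientGroup.eq.mp e, rfl⟩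
      have hp : (P i)⁻¹ * P i' ∈ 𝐕 := by
        set z := (P i * Q j)⁻¹ * (P i' * Q j')
        have e2 : (P i)⁻¹ * P i' = Q j * z * (Q j')⁻¹ := by simp only [z]; group
        refine hRV hvw (hRmul hv (hRinv (hP i)) (hP i')) ?_
        rw [e2]
        exact hRmul hwV (hRmul hwV (hQ j) ⟨c.V_le e1, fun x hx => Or.inl (c.cm_V hx e1)⟩) (hRinv (hQ j'))
      obtain rfl := hPi i i' hp
      have e3 : (Q j)⁻¹ * Q j' ∈ 𝐕 := by
        convert e1 using 1
        group
      rw [hQi j j' e3]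
    have h16 : Nat.card (𝐒 ⧸ Subgroup.center 𝐒) = 16 := by
      have e := Subgroup.card_eq_card_quotient_mul_card_subgroup (Subgroup.center 𝐒)
      rw [c.c64, c.hV.card_four] at e
      omega
    have hbij : Function.Bijective F := (Nat.bijective_iff_injective_and_card F).mpr ⟨hF, by
      rw [h16, Nat.card_prod, Nat.card_fin]⟩
    refine hdV (c.mem_V.mpr ⟨hdR.1, fun x hx => ?_⟩)
    obtain ⟨⟨i, j⟩, e⟩ := hbij.2 (QuotientGroup.mk ⟨x, hx⟩)
    have e1 : (P i * Q j)⁻¹ * x ∈ 𝐕 := ⟨_, QuotientGroup.eq.mp e, rfl⟩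
    have hxe : x = P i * Q j * ((P i * Q j)⁻¹ * x) := by group
    have hcx : cm x d = 1 := by
      rw [hxe, c.cm_left (𝐒.mul_mem (hP i).1 (hQ j).1) (c.V_le e1) hdR.1, c.cm_left (hP i).1 (hQ j).1 hdR.1,
        hcomm hvu (hP i) hdR, hcomm hwu (hQ j) hdR, c.cm_V' hdR.1 e1, one_mul, one_mul]
    rwa [cm, mul_inv_eq_one, mul_inv_eq_iff_eq_mul] at hcx
  · -- a radical of order two modulo the centre
    simp only [not_exists, not_and, not_not] at hbig
    have hnd : R v (n * d * n⁻¹) := hnu ▸ hRn hdR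
    have hndV : n * d * n⁻¹ ∉ 𝐕 := fun e => hdV ((Subgroup.mem_normalizer_iff.mp hn.mem d).mpr e)
    set v0 := a⁻¹ * (n * d * n⁻¹)
    have hv0 : v0 ∈ 𝐕 := hbig _ hnd hndV
    have habd : a * b * d ∈ 𝐕 := by
      refine c.fixmod hn (𝐒.mul_mem (𝐒.mul_mem ha hbR.1) hdR.1) ?_
      have e : n * (a * b * d) * n⁻¹ = b * d * (a * v0) := by simp only [v0, hb, hd]; group
      rw [e]
      have hc := c.comm_mem (𝐒.inv_mem (𝐒.mul_mem hbR.1 hdR.1)) (𝐒.inv_mem ha)
      have e2 : (a * b * d)⁻¹ * (b * d * (a * v0)) =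
          ((b * d)⁻¹ * a⁻¹ * (b * d)⁻¹⁻¹ * a⁻¹⁻¹) * v0 := by group
      rw [e2]
      exact 𝐕.mul_mem hc hv0
    have hsame : ∀ x ∈ 𝐒, (cm x a = 1 ↔ cm x b = 1) := by
      intro x hx
      have e := c.cm_V hx habd
      rw [c.cm_right hx (𝐒.mul_mem ha hbR.1) hdR.1, c.cm_right hx ha hbR.1] at e
      rcases h x hx with h1 | h1 <;> rcases hbR.2 x hx with h2 | h2 <;> rcases hdR.2 x hx with h3 | h3 <;>
        rw [h1, h2, h3] at e <;> rw [h1, h2] <;> simp only [hv1, hw1, mul_one, one_mul] at e ⊢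
      all_goals first
        | exact absurd e hw1
        | exact absurd e hv1
        | (rw [mul_eq_one_iff_eq_inv, c.V_inv huV] at e; exact absurd e hvu)
        | (rw [mul_eq_one_iff_eq_inv, c.V_inv huV] at e; exact absurd e hwu)
        | (rw [mul_eq_one_iff_eq_inv, c.V_inv hwV] at e; exact absurd e hvw)
    obtain ⟨x0, hx0, hx0a⟩ : ∃ x ∈ 𝐒, cm x a = v := by
      by_contra hne
      simp only [not_exists, not_and] at hne
      refine haV (c.mem_V.mpr ⟨ha, fun x hx => ?_⟩)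
      have := (h x hx).resolve_right (hne x hx)
      rwa [cm, mul_inv_eq_one, mul_inv_eq_iff_eq_mul] at this
    have hinv : ∀ y ∈ 𝐒, cm (n * y * n⁻¹) a = cm y a := by
      intro y hy
      have hy' := c.conj_S hnS hy
      have e : cm (n * y * n⁻¹) b = n * cm y a * n⁻¹ := cm_conj n y a
      rcases h y hy with h1 | h1 <;> rw [h1] at e ⊢
      · exact (hsame _ hy').mpr (by rw [e]; group)
      · exact (h _ hy').resolve_left fun h2 => hw1 (by rw [hw, ← e]; exact (hsame _ hy').mp h2)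
    let f : ℕ → G := fun i => Nat.rec 1 (fun _ z => x0 * (n * z * n⁻¹)) i
    have hf : ∀ i, f i ∈ 𝐒 := fun i => by
      induction i with
      | zero => exact one_mem _
      | succ i ih => exact 𝐒.mul_mem hx0 (c.conj_S hnS ih)
    have hf2 : ∀ i, f (i + 1) = f i * (n ^ i * x0 * (n ^ i)⁻¹) := fun i => by
      induction i with
      | zero => simp [f]
      | succ i ih =>
        show x0 * (n * f (i + 1) * n⁻¹) = x0 * (n * f i * n⁻¹) * _
        rw [ih]; group
    have hfv : ∀ i, cm (f i) a = v ^ i := fun i => by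
      induction i with
      | zero => simp [f, cm]
      | succ i ih =>
        show cm (x0 * (n * f i * n⁻¹)) a = _
        rw [c.cm_left hx0 (c.conj_S hnS (hf i)) ha, hinv _ (hf i), ih, hx0a, pow_succ']
    set N := orderOf n
    have hfN : f N ∈ 𝐕 := by
      refine c.fixmod hn (hf N) ?_
      have e1 : x0 * (n * f N * n⁻¹) = f N * x0 := by
        have := hf2 N
        rw [pow_orderOf_eq_one] at this
        simpa [f] using this
      have e2 : (f N)⁻¹ * (n * f N * n⁻¹) = (f N)⁻¹ * x0⁻¹ * f N * x0 := by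
        rw [show n * f N * n⁻¹ = x0⁻¹ * (x0 * (n * f N * n⁻¹)) by group, e1]; group
      rw [e2]
      have := c.comm_mem (𝐒.inv_mem (hf N)) (𝐒.inv_mem hx0)
      simpa [mul_assoc] using this
    have := hfv N
    rw [c.cm_V' ha hfN] at this
    obtain ⟨j, hj⟩ := hn.odd
    rw [show N = 2 * j + 1 from hj, pow_succ, pow_mul, pow_two, c.V_sq hv, one_pow, one_mul] at this
    exact hv1 this.symm

/-- Odd elements of the normalizer fixing the centre centralize the Sylow subgroup. -/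
theorem cent_S {m : G} (hm : m ∈ NS) (hmV : m ∈ CV) (ho : Odd (orderOf m)) :
    m ∈ Subgroup.centralizer (𝐒 : Set G) := by
  classical
  have hmfix : ∀ v ∈ 𝐕, m * v * m⁻¹ = v := fun v hv =>
    mul_inv_eq_iff_eq_mul.mpr (Subgroup.mem_centralizer_iff.mp hmV v hv).symm
  -- displacement lies in the centre
  have hδ : ∀ x ∈ 𝐒, m * x * m⁻¹ * x⁻¹ ∈ 𝐕 := by
    intro x1 hx1
    by_contra hy
    set y := m * x1 * m⁻¹ * x1⁻¹
    have hyS : y ∈ 𝐒 := 𝐒.mul_mem (c.conj_S hm hx1) (𝐒.inv_mem hx1)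
    obtain ⟨M, ⟨hVM, hMS, hyM⟩, hmax⟩ := Set.Finite.exists_maximal
      (Set.toFinite {M : Subgroup G | 𝐕 ≤ M ∧ M ≤ 𝐒 ∧ y ∉ M}) ⟨𝐕, le_rfl, c.V_le, hy⟩
    have hnorm : ∀ s ∈ 𝐒, ∀ p ∈ M, s * p * s⁻¹ ∈ M := fun s hs p hp => by
      have := M.mul_mem (hVM (c.comm_mem hs (hMS hp))) hp
      rwa [inv_mul_cancel_right] at this
    have hdich : ∀ z ∈ 𝐒, z ∈ M ∨ z * y ∈ M := by
      intro z hz
      by_contra hcon
      simp only [not_or] at hcon
      let M' : Subgroup G :=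
        { carrier := {g | g ∈ M ∨ g * z ∈ M ∧ g ∈ 𝐒}
          one_mem' := Or.inl M.one_mem
          mul_mem' := by
            rintro g g' (hg | ⟨hg, hgS⟩) (hg' | ⟨hg', hgS'⟩)
            · exact Or.inl (M.mul_mem hg hg')
            · exact Or.inr ⟨by rw [mul_assoc]; exact M.mul_mem hg hg', 𝐒.mul_mem (hMS hg) hgS'⟩
            · refine Or.inr ⟨?_, 𝐒.mul_mem hgS (hMS hg')⟩
              rw [show g * g' * z = g * z * (z⁻¹ * g' * z⁻¹⁻¹) by group]
              exact M.mul_mem hg (hnorm _ (𝐒.inv_mem hz) g' hg')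
            · refine Or.inl ?_
              rw [show g * g' = g * z * (z⁻¹ * (g' * z) * z⁻¹⁻¹) * (z * z)⁻¹ by group]
              exact M.mul_mem (M.mul_mem hg (hnorm _ (𝐒.inv_mem hz) _ hg')) (M.inv_mem (hVM (c.sq_mem hz)))
          inv_mem' := by
            rintro g (hg | ⟨hg, hgS⟩)
            · exact Or.inl (M.inv_mem hg)
            · refine Or.inr ⟨?_, 𝐒.inv_mem hgS⟩
              have h1 := hnorm z hz _ (M.mul_mem (M.inv_mem hg) (hVM (c.sq_mem hz)))
              rw [show g⁻¹ * z = z * ((g * z)⁻¹ * (z * z)) * z⁻¹ by group]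
              exact h1 }
      have hle : M ≤ M' := fun g hg => Or.inl hg
      have hyM' : y ∉ M' := by
        rintro (h | ⟨h, -⟩)
        · exact hyM h
        · refine hcon.2 ?_
          have := hnorm z hz _ h
          rw [show z * (y * z) * z⁻¹ = z * y by group] at this
          exact this
      have hzM' : z⁻¹ ∈ M' := Or.inr ⟨by rw [inv_mul_cancel]; exact M.one_mem, 𝐒.inv_mem hz⟩
      have hM'S : M' ≤ 𝐒 := by
        rintro g (hg | ⟨-, hg⟩)
        · exact hMS hg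
        · exact hg
      exact hcon.1 (inv_inv z ▸ M.inv_mem (hmax ⟨hVM.trans hle, hM'S, hyM'⟩ hle hzM'))
    obtain ⟨v0, hv0, hv01⟩ := c.exists_ne_one
    let w : G → G := fun g => if g ∈ M then 1 else v0
    have hwV : ∀ g, w g ∈ 𝐕 := fun g => by simp only [w]; split <;> [exact one_mem _; exact hv0]
    have hwv : ∀ v ∈ 𝐕, w v = 1 := fun v hv => if_pos (hVM hv)
    have hwmul : ∀ g ∈ 𝐒, ∀ g' ∈ 𝐒, w (g * g') = w g * w g' := by
      intro g hg g' hg'
      simp only [w]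
      by_cases h1 : g ∈ M <;> by_cases h2 : g' ∈ M
      · simp [h1, h2, M.mul_mem h1 h2]
      · simp [h1, h2, (M.mul_mem_cancel_left h1).not.mpr h2]
      · simp [h1, h2, (M.mul_mem_cancel_right h2).not.mpr h1]
      · have h3 : g * g' ∈ M := by
          have e1 := (hdich g hg).resolve_left h1
          have e2 := (hdich g' hg').resolve_left h2
          rw [show g * g' = g * y * (y⁻¹ * (g' * y) * y⁻¹⁻¹) * (y * y)⁻¹ by group]
          exact M.mul_mem (M.mul_mem e1 (hnorm _ (𝐒.inv_mem hyS) _ e2)) (M.inv_mem (hVM (c.sq_mem hyS)))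
        simp [h1, h2, h3, c.V_sq hv0]
    have hwy : w y = v0 := if_neg hyM
    let α : 𝐒 ≃* 𝐒 :=
      { toFun := fun x => ⟨(x : G) * w x, 𝐒.mul_mem x.2 (c.V_le (hwV _))⟩
        invFun := fun x => ⟨(x : G) * w x, 𝐒.mul_mem x.2 (c.V_le (hwV _))⟩
        left_inv := fun x => Subtype.ext (by
          show (x : G) * w x * w ((x : G) * w x) = x
          rw [hwmul _ x.2 _ (c.V_le (hwV _)), hwv _ (hwV _), mul_one, mul_assoc, c.V_sq (hwV _), mul_one])
        right_inv := fun x => Subtype.ext (by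
          show (x : G) * w x * w ((x : G) * w x) = x
          rw [hwmul _ x.2 _ (c.V_le (hwV _)), hwv _ (hwV _), mul_one, mul_assoc, c.V_sq (hwV _), mul_one])
        map_mul' := fun x y => Subtype.ext (by
          show (x : G) * y * w ((x : G) * y) = (x : G) * w x * ((y : G) * w y)
          rw [hwmul _ x.2 _ y.2]
          calc (x : G) * y * (w x * w y) = (x : G) * ((y : G) * w x) * w y := by group
            _ = (x : G) * (w x * y) * w y := by rw [c.V_comm (hwV _) y.2]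
            _ = _ := by group) }
    let ν : 𝐒 ≃* 𝐒 := Subgroup.normalizerMonoidHom 𝐒 ⟨m, hm⟩
    have hν : ν ∈ autz 𝐒 := ⟨m, fun x => rfl⟩
    obtain ⟨g, hg⟩ := (c.hom.autz_normal 𝐒).conj_mem ν hν α
    set g' := m⁻¹ * g
    set e : G → G := fun x => w (m * x * m⁻¹ * x⁻¹)
    have hact : ∀ x ∈ 𝐒, g' * x * g'⁻¹ = x * e x := by
      intro x hx
      have h1 := hg ⟨x, hx⟩
      rw [MulAut.mul_apply, MulAut.mul_apply] at h1
      have hx' : x * w x ∈ 𝐒 := 𝐒.mul_mem hx (c.V_le (hwV _))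
      have e1 : ((α (ν (α⁻¹ ⟨x, hx⟩)) : 𝐒) : G) = m * (x * w x) * m⁻¹ * w (m * (x * w x) * m⁻¹) := rfl
      rw [e1, show m * (x * w x) * m⁻¹ = m * x * m⁻¹ * (m * w x * m⁻¹) by group, hmfix _ (hwV _),
        hwmul _ (c.conj_S hm hx) _ (c.V_le (hwV _)), hwv _ (hwV _), mul_one] at h1
      have e2 : w x * w (m * x * m⁻¹) = e x := by
        have e3 := hwmul _ (𝐒.mul_mem (c.conj_S hm hx) (𝐒.inv_mem hx)) x hx
        rw [inv_mul_cancel_right] at e3
        rw [e3, show w (m * x * m⁻¹ * x⁻¹) = e x from rfl, c.V_abelian (hwV _) (𝐕.mul_mem (hwV _) (hwV _)), mul_assoc,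
          c.V_sq (hwV _), mul_one]
      rw [mul_assoc (m * x * m⁻¹), e2] at h1
      calc g' * x * g'⁻¹ = m⁻¹ * (g * x * g⁻¹) * m := by simp only [g']; group
        _ = x * (m⁻¹ * e x * m) := by rw [h1]; group
        _ = x * e x := by
          congr 1
          have := hmfix _ (hwV (m * x * m⁻¹ * x⁻¹))
          calc m⁻¹ * e x * m = m⁻¹ * (m * e x * m⁻¹) * m := by rw [this]
            _ = e x := by group
    have he1 : ∀ x ∈ 𝐒, e (x * e x) = e x := by
      intro x hx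
      have hv : e x ∈ 𝐕 := hwV _
      simp only [e] at hv ⊢
      set z := w (m * x * m⁻¹ * x⁻¹)
      congr 1
      rw [show m * (x * z) * m⁻¹ * (x * z)⁻¹ = m * x * m⁻¹ * (m * z * m⁻¹ * z⁻¹) * x⁻¹ by group, hmfix _ hv]
      group
    have hg'N : g' ∈ NS := CfsgA8C.mem_normalizer_of_le fun x hx => by
      rw [hact x hx]; exact 𝐒.mul_mem hx (c.V_le (hwV _))
    have hg'2 : g' * g' ∈ Subgroup.centralizer (𝐒 : Set G) := Subgroup.mem_centralizer_iff.mpr fun x hx => by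
      refine (mul_inv_eq_iff_eq_mul.mp ?_).symm
      rw [show g' * g' * x * (g' * g')⁻¹ = g' * (g' * x * g'⁻¹) * g'⁻¹ by group, hact x hx,
        hact _ (𝐒.mul_mem hx (c.V_le (hwV _))), he1 x hx, mul_assoc, c.V_sq (hwV _), mul_one]
    obtain ⟨k, o, h2, hodd, A, B, hdec⟩ := decomp2 g'
    set s := (g' ^ o) ^ B
    have hsS : s ∈ 𝐒 := 𝐒.zpow_mem (c.two_mem_S (Subgroup.pow_mem _ hg'N o) h2) B
    have hz : g' ^ 2 ^ k ∈ Subgroup.centralizer (𝐒 : Set G) := mem_of_sq hodd (by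
      rw [← pow_add, ← two_mul, pow_mul, pow_two]; exact Subgroup.pow_mem _ hg'2 _)
    have hs : ∀ x ∈ 𝐒, g' * x * g'⁻¹ = s * x * s⁻¹ := fun x hx => by
      conv_lhs => rw [hdec]
      have := Subgroup.mem_centralizer_iff.mp (Subgroup.zpow_mem _ hz A) x hx
      rw [show (g' ^ o) ^ B * (g' ^ 2 ^ k) ^ A * x * ((g' ^ o) ^ B * (g' ^ 2 ^ k) ^ A)⁻¹ =
        s * ((g' ^ 2 ^ k) ^ A * x * ((g' ^ 2 ^ k) ^ A)⁻¹) * s⁻¹ by simp only [s]; group,
        mul_inv_eq_iff_eq_mul.mpr this.symm]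
    have hsV : s ∈ 𝐕 := by
      refine c.nondeg hv0 hv01 hsS fun x hx => ?_
      have e1 : s * x * s⁻¹ = x * e x := (hs x hx).symm.trans (hact x hx)
      have e2 : cm x s = (e x)⁻¹ := by
        have e3 : cm x s = (cm s x)⁻¹ := by simp only [cm]; group
        rw [e3, cm, e1, c.V_comm (hwV _) hx, mul_inv_cancel_right]
      rw [e2]
      simp only [e, w]
      split
      · left; group
      · exact Or.inr (c.V_inv hv0)
    have e1 : s * x1 * s⁻¹ = x1 * e x1 := (hs x1 hx1).symm.trans (hact x1 hx1)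
    rw [← c.V_comm hsV hx1, mul_inv_cancel_right, left_eq_mul] at e1
    exact hv01 (by rw [← hwy]; exact e1)
  refine Subgroup.mem_centralizer_iff.mpr fun x hx => (mul_inv_eq_iff_eq_mul.mp ?_).symm
  set v := m * x * m⁻¹ * x⁻¹
  have hvV : v ∈ 𝐕 := hδ x hx
  have hiter : ∀ i, m ^ i * x * (m ^ i)⁻¹ = v ^ i * x := fun i => by
    induction i with
    | zero => simp
    | succ i ih =>
      calc m ^ (i + 1) * x * (m ^ (i + 1))⁻¹ = m * (m ^ i * x * (m ^ i)⁻¹) * m⁻¹ := by rw [pow_succ']; group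
        _ = (m * v ^ i * m⁻¹) * (m * x * m⁻¹) := by rw [ih]; group
        _ = v ^ i * (v * x) := by rw [hmfix _ (𝐕.pow_mem hvV i)]; simp only [v]; group
        _ = v ^ (i + 1) * x := by rw [pow_succ]; group
  have := hiter (orderOf m)
  rw [pow_orderOf_eq_one, one_mul, inv_one, mul_one, right_eq_mul] at this
  obtain ⟨j, hj⟩ := ho
  rw [hj, pow_succ, pow_mul, pow_two, c.V_sq hvV, one_pow, one_mul] at this
  have e : m * x * m⁻¹ = v * x := by simp only [v]; group
  rw [e, this, one_mul]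

/-- The centralizer of the centre is the Sylow subgroup times its odd core. -/
theorem CV_ctl : CfsgA8C.Ctl CV 𝐒 := by
  haveI := Fact.mk Nat.prime_two
  set X := CV
  set VX : Subgroup X := 𝐕.subgroupOf X
  haveI : VX.Normal := ⟨fun v hv y => by
    show (y : G) * v * (y : G)⁻¹ ∈ 𝐕
    exact c.conj_V (c.CV_le_NV y.2) hv⟩
  set mk : X →* X ⧸ VX := QuotientGroup.mk' VX
  set SX : Subgroup X := 𝐒.subgroupOf X
  have hVS : VX ≤ SX := fun v hv => c.V_le hv
  have hVX2 : IsPGroup 2 mk.ker := by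
    rw [QuotientGroup.ker_mk']
    exact fun v => ⟨1, Subtype.ext (Subtype.ext (by simpa [pow_two] using c.V_sq v.2))⟩
  have hmem : ∀ {y : X}, mk y ∈ SX.map mk → (y : G) ∈ 𝐒 := fun {y} hy => by
    obtain ⟨s, hs, e⟩ := hy
    obtain ⟨z, hz, rfl⟩ := (QuotientGroup.mk'_eq_mk' VX).mp e
    exact 𝐒.mul_mem hs (hVS hz)
  have hb : CfsgA8C.Ctl (⊤ : Subgroup (X ⧸ VX)) (SX.map mk) := by
    refine CfsgA8C.burnside2 le_top ?_ ?_ ?_
    · rintro _ ⟨s, hs, rfl⟩
      rw [← map_mul]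
      exact (QuotientGroup.eq_one_iff _).mpr (c.sq_mem hs)
    · intro R hR _ hp r hr
      obtain ⟨y, rfl⟩ := QuotientGroup.mk'_surjective VX r
      have hle : 𝐒 ≤ ((R.comap mk).map X.subtype) := fun s hs =>
        ⟨⟨s, c.S_le_CV hs⟩, hR ⟨⟨s, c.S_le_CV hs⟩, hs, rfl⟩, rfl⟩
      have hy : (y : G) ∈ (R.comap mk).map X.subtype := ⟨y, hr, rfl⟩
      rw [c.S.3 ((hp.comap_of_ker_isPGroup mk hVX2).map _) hle] at hy
      exact ⟨y, hy, rfl⟩
    · intro q _ hq a ha
      obtain ⟨y, rfl⟩ := QuotientGroup.mk'_surjective VX q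
      obtain ⟨x, hx, rfl⟩ := ha
      have hyN : (y : G) ∈ NS := CfsgA8C.mem_normalizer_of_le fun s hs => by
        have h := hq (mk ⟨s, c.S_le_CV hs⟩) ⟨_, hs, rfl⟩
        rw [← map_inv, ← map_mul, ← map_mul] at h
        exact hmem h
      obtain ⟨k, o, h2, hodd, A, B, hdec⟩ := decomp2 (y : G)
      set s := ((y : G) ^ o) ^ B with hs
      have hsS : s ∈ 𝐒 := 𝐒.zpow_mem (c.two_mem_S (Subgroup.pow_mem _ hyN o) h2) B
      have hz : ((y : G) ^ 2 ^ k) ^ A ∈ Subgroup.centralizer (𝐒 : Set G) :=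
        Subgroup.zpow_mem _ (c.cent_S (Subgroup.pow_mem _ hyN _) (Subgroup.pow_mem _ y.2 _) hodd) A
      have e : (y : G) * x * (y : G)⁻¹ = cm s (x : G) * x := by
        conv_lhs => rw [hdec]
        rw [show ((y : G) ^ o) ^ B * ((y : G) ^ 2 ^ k) ^ A * (x : G) * (((y : G) ^ o) ^ B * ((y : G) ^ 2 ^ k) ^ A)⁻¹ =
          s * (((y : G) ^ 2 ^ k) ^ A * (x : G) * (((y : G) ^ 2 ^ k) ^ A)⁻¹) * s⁻¹ by simp only [hs]; group,
          mul_inv_eq_iff_eq_mul.mpr (Subgroup.mem_centralizer_iff.mp hz (x : G) hx).symm]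
        simp only [cm]; group
      rw [← map_inv, ← map_mul, ← map_mul]
      rw [show y * x * y⁻¹ = ⟨cm s (x : G), c.V_le_CV (c.comm_mem hsS hx)⟩ * x from Subtype.ext e, map_mul,
        show mk ⟨cm s (x : G), c.V_le_CV (c.comm_mem hsS hx)⟩ = 1 from
          (QuotientGroup.eq_one_iff _).mpr (show cm s (x : G) ∈ 𝐕 from c.comm_mem hsS hx), one_mul]
  set D := (CfsgA8C.core (⊤ : Subgroup (X ⧸ VX))).comap mk
  have hDn : ∀ x d : X, d ∈ D → x * d * x⁻¹ ∈ D := fun x d hd => by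
    show mk (x * d * x⁻¹) ∈ CfsgA8C.core _
    rw [map_mul, map_mul, map_inv]
    exact CfsgA8C.core_conj_mem (Subgroup.mem_top _) hd
  have hD := CfsgA8C.burnside2 (X := D) (A := VX) (fun v hv => by
      show mk v ∈ CfsgA8C.core _
      rw [show mk v = 1 from (QuotientGroup.eq_one_iff v).mpr hv]; exact one_mem _)
    (fun v hv => Subtype.ext (c.V_sq hv)) (fun R _ hRD hR r hr => by
      obtain ⟨k, hk⟩ := hR ⟨r, hr⟩
      have h2 : orderOf (mk r) ∣ 2 ^ k := orderOf_dvd_of_pow_eq_one (by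
        rw [← map_pow, show r ^ 2 ^ k = 1 from congrArg Subtype.val hk, map_one])
      exact (QuotientGroup.eq_one_iff r).mp (orderOf_eq_one_iff.mp (Nat.Coprime.eq_one_of_dvd
        (Nat.Coprime.pow_right _ (Nat.coprime_two_right.mpr (CfsgA8C.odd_orderOf (CfsgA8C.core_odd _) (hRD hr)))) h2)))
    (fun y _ _ v hv => mul_inv_eq_iff_eq_mul.mpr (Subtype.ext (Subgroup.mem_centralizer_iff.mp y.2 v hv).symm))
  haveI : (CfsgA8C.core D).Normal := ⟨fun o ho x => CfsgA8C.core_conj (fun y => ⟨fun hy => hDn x y hy, fun hy => by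
    have := hDn x⁻¹ _ hy
    simpa [mul_assoc] using this⟩) ho⟩
  intro g hg
  obtain ⟨q, hq, o', ho', he⟩ := hb (mk ⟨g, hg⟩) (Subgroup.mem_top _)
  obtain ⟨s, hs, rfl⟩ := hq
  obtain ⟨v, hv, o, ho, he2⟩ := hD (s⁻¹ * ⟨g, hg⟩) (by
    show mk _ ∈ CfsgA8C.core _
    rw [map_mul, map_inv, he, inv_mul_cancel_left]; exact ho')
  refine ⟨(s : G) * v, 𝐒.mul_mem hs (hVS hv), o, ⟨o, CfsgLib.le_oddCore (CfsgA8C.core_odd D) ho, rfl⟩, ?_⟩
  have := congrArg (fun z : X => ((s * z : X) : G)) he2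
  simpa [mul_assoc] using this

end Ctx

end CfsgLib.Homogeneous.Unitary
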