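import Cfsg.Agent.Lib.Homogeneous.Scalar
import Cfsg.Agent.Lib.Homogeneous.Fixed
import Cfsg.Agent.Lib.A8Classes.Flat
import Cfsg.Agent.Lib.ZStar.Main

/-!
A Sylow 2-subgroup of order 64 whose involutions form its centre, a four-group equal to its derived subgroup, in
a simple homogeneous group: the centre and its rotations.
-/

set_option autoImplicit false

namespace CfsgLib.Homogeneous.Unitary

open Cfsg Subgroup
open scoped commutatorElement

universe u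

/-- The hypotheses. -/
structure Ctx (G : Type u) [Group G] where
  S : Sylow 2 G
  hom : Hom G
  c64 : Nat.card (S : Subgroup G) = 64
  hV : IsKleinFour (Subgroup.center (S : Subgroup G))
  hΩ : ∀ x : (S : Subgroup G), x * x = 1 → x ∈ Subgroup.center (S : Subgroup G)
  hD : _root_.commutator (S : Subgroup G) = Subgroup.center (S : Subgroup G)
  hsq : ∀ x : (S : Subgroup G), x * x ∈ Subgroup.center (S : Subgroup G)

variable {G : Type u} [Group G]

theorem two_elem_isPGroup {y : G} {k : ℕ} (h : y ^ 2 ^ k = 1) : IsPGroup 2 (zpowers y) := by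
  rintro ⟨z, hz⟩
  obtain ⟨j, rfl⟩ := Subgroup.mem_zpowers_iff.mp hz
  refine ⟨k, Subtype.ext ?_⟩
  show (y ^ j) ^ 2 ^ k = 1
  rw [← zpow_natCast, ← zpow_mul, mul_comm, zpow_mul, zpow_natCast, h, one_zpow]

theorem odd_part [Finite G] (y : G) :
    ∃ k m : ℕ, Odd m ∧ orderOf y = 2 ^ k * m ∧ (y ^ m) ^ 2 ^ k = 1 ∧ Odd (orderOf (y ^ 2 ^ k)) := by
  obtain ⟨k, m, hm, he⟩ := Nat.exists_eq_two_pow_mul_odd (orderOf_pos y).ne'
  refine ⟨k, m, hm, he, by rw [← pow_mul, mul_comm, ← he, pow_orderOf_eq_one], ?_⟩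
  rw [orderOf_pow_of_dvd (by positivity) (he ▸ dvd_mul_right _ _), he,
    Nat.mul_div_cancel_left _ (by positivity)]
  exact hm

/-- An element of odd order lies in the cyclic group of its square. -/
theorem mem_of_sq [Finite G] {n : G} (ho : Odd (orderOf n)) {H : Subgroup G} (h : n * n ∈ H) : n ∈ H := by
  obtain ⟨j, hj⟩ := ho
  have e : (n * n) ^ (j + 1) = n := by
    rw [← pow_two, ← pow_mul, show 2 * (j + 1) = orderOf n + 1 by omega, pow_succ, pow_orderOf_eq_one, one_mul]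
  exact e ▸ H.pow_mem h _

namespace Ctx

variable (c : Ctx G)

/-- The centre of the Sylow subgroup. -/
def V : Subgroup G := (Subgroup.center (c.S : Subgroup G)).map (c.S : Subgroup G).subtype

local notation "𝐒" => (Sylow.toSubgroup (Ctx.S c))
local notation "𝐕" => Ctx.V c
local notation "NV" => Subgroup.normalizer ((Ctx.V c : Subgroup G) : Set G)
local notation "CV" => Subgroup.centralizer ((Ctx.V c : Subgroup G) : Set G)

theorem V_le : 𝐕 ≤ 𝐒 := Subgroup.map_subtype_le _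

theorem mem_V {x : G} : x ∈ 𝐕 ↔ x ∈ 𝐒 ∧ ∀ s ∈ 𝐒, s * x = x * s := by
  constructor
  · rintro ⟨y, hy, rfl⟩
    exact ⟨y.2, fun s hs => congrArg Subtype.val (Subgroup.mem_center_iff.mp hy ⟨s, hs⟩)⟩
  · rintro ⟨hx, hc⟩
    exact ⟨⟨x, hx⟩, Subgroup.mem_center_iff.mpr fun s => Subtype.ext (hc s s.2), rfl⟩

theorem V_comm {v : G} (hv : v ∈ 𝐕) {s : G} (hs : s ∈ 𝐒) : s * v = v * s := (c.mem_V.mp hv).2 s hs

theorem sq_mem {s : G} (hs : s ∈ 𝐒) : s * s ∈ 𝐕 := ⟨_, c.hsq ⟨s, hs⟩, rfl⟩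

theorem invol_mem {s : G} (hs : s ∈ 𝐒) (h : s * s = 1) : s ∈ 𝐕 := ⟨_, c.hΩ ⟨s, hs⟩ (Subtype.ext h), rfl⟩

theorem comm_mem {s r : G} (hs : s ∈ 𝐒) (hr : r ∈ 𝐒) : s * r * s⁻¹ * r⁻¹ ∈ 𝐕 := by
  refine ⟨⁅(⟨s, hs⟩ : 𝐒), ⟨r, hr⟩⁆, ?_, ?_⟩
  · rw [← c.hD]; exact Subgroup.commutator_mem_commutator (Subgroup.mem_top _) (Subgroup.mem_top _)
  · simp [commutatorElement_def]

/-- Homomorphisms to commutative groups kill the centre. -/
theorem kill {A : Type*} [CommGroup A] (f : 𝐒 →* A) {v : G} (hv : v ∈ 𝐕) : f ⟨v, c.V_le hv⟩ = 1 := by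
  obtain ⟨y, hy, rfl⟩ := hv
  rw [← c.hD] at hy
  have h : _root_.commutator 𝐒 ≤ f.ker := Abelianization.commutator_subset_ker f
  exact MonoidHom.mem_ker.mp (h hy)

theorem card_V : Nat.card 𝐕 = 4 := by
  rw [V, Subgroup.card_map_of_injective (Subgroup.subtype_injective _)]
  exact c.hV.card_four

theorem V_sq {v : G} (hv : v ∈ 𝐕) : v * v = 1 := by
  obtain ⟨y, hy, rfl⟩ := hv
  haveI := c.hV
  have h := Monoid.pow_exponent_eq_one (⟨y, hy⟩ : Subgroup.center 𝐒)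
  rw [IsKleinFour.exponent_two] at h
  rw [← pow_two]
  exact congrArg (fun z : Subgroup.center 𝐒 => ((z : 𝐒) : G)) h

theorem V_inv {v : G} (hv : v ∈ 𝐕) : v⁻¹ = v := inv_eq_of_mul_eq_one_right (c.V_sq hv)

theorem klein {v w : G} (hv : v ∈ 𝐕) (hw : w ∈ 𝐕) (hv1 : v ≠ 1) (hw1 : w ≠ 1) (hvw : v ≠ w) {x : G}
    (hx : x ∈ 𝐕) : x = 1 ∨ x = v ∨ x = w ∨ x = v * w := by
  classical
  by_contra hcon
  simp only [not_or] at hcon
  obtain ⟨x1, x2, x3, x4⟩ := hcon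
  have hvw1 : v * w ≠ 1 := fun e => hvw (by rw [mul_eq_one_iff_eq_inv, c.V_inv hw] at e; exact e)
  have hmem : ∀ y ∈ ([1, v, w, v * w, x] : List G), y ∈ 𝐕 := by
    simp only [List.mem_cons, List.not_mem_nil, or_false, forall_eq_or_imp, forall_eq]
    exact ⟨one_mem _, hv, hw, 𝐕.mul_mem hv hw, hx⟩
  have hnd : ([1, v, w, v * w, x] : List G).Nodup := by
    simp only [List.nodup_cons, List.mem_cons, List.not_mem_nil, or_false, not_or, List.nodup_nil, and_true,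
      not_false_eq_true]
    exact ⟨⟨hv1.symm, hw1.symm, hvw1.symm, fun e => x1 e.symm⟩,
      ⟨hvw, fun e => hw1 (left_eq_mul.mp e), fun e => x2 e.symm⟩,
      ⟨fun e => hv1 (right_eq_mul.mp e), fun e => x3 e.symm⟩, fun e => x4 e.symm⟩
  haveI : Finite 𝐕 := Nat.finite_of_card_ne_zero (by rw [c.card_V]; norm_num)
  have h5 := Nat.card_le_card_of_injective (fun i : Fin 5 => (⟨[1, v, w, v * w, x].get i, hmem _ (List.get_mem _ _)⟩ : 𝐕))
    fun i j h => hnd.injective_get (congrArg Subtype.val h)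
  rw [Nat.card_fin, c.card_V] at h5
  omega

theorem exists_ne_one : ∃ v ∈ 𝐕, v ≠ 1 := by
  by_contra h
  simp only [not_exists, not_and, ne_eq, not_not] at h
  have := c.card_V
  rw [(Subgroup.eq_bot_iff_forall _).mpr h, Subgroup.card_bot] at this
  omega

theorem V_abelian {v w : G} (hv : v ∈ 𝐕) (hw : w ∈ 𝐕) : v * w = w * v := c.V_comm hw (c.V_le hv)

theorem V_le_CV : 𝐕 ≤ CV := fun v hv => Subgroup.mem_centralizer_iff.mpr fun w hw => c.V_abelian hw hv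

theorem S_le_CV : 𝐒 ≤ CV := fun s hs => Subgroup.mem_centralizer_iff.mpr fun w hw => (c.V_comm hw hs).symm

theorem conj_V {y v : G} (hy : y ∈ NV) (hv : v ∈ 𝐕) : y * v * y⁻¹ ∈ 𝐕 := (Subgroup.mem_normalizer_iff.mp hy v).mp hv

theorem CV_le_NV : CV ≤ NV := fun y hy => Subgroup.mem_normalizer_iff.mpr fun v => by
  refine ⟨fun hv => ?_, fun hv => ?_⟩
  · rw [← Subgroup.mem_centralizer_iff.mp hy v hv, mul_inv_cancel_right]; exact hv
  · have h2 := Subgroup.mem_centralizer_iff.mp hy _ hv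
    have e : y * v * y⁻¹ = v := by
      calc y * v * y⁻¹ = y⁻¹ * (y * (y * v * y⁻¹)) := by group
        _ = y⁻¹ * ((y * v * y⁻¹) * y) := by rw [h2]
        _ = v := by group
    exact e ▸ hv

theorem CV_conj {x y : G} (hx : x ∈ CV) (hy : y ∈ NV) : y * x * y⁻¹ ∈ CV := by
  refine Subgroup.mem_centralizer_iff.mpr fun v hv => ?_
  have h1 : y⁻¹ * v * y ∈ 𝐕 := (Subgroup.mem_normalizer_iff''.mp hy v).mp hv
  have h2 := Subgroup.mem_centralizer_iff.mp hx _ h1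
  calc v * (y * x * y⁻¹) = y * ((y⁻¹ * v * y) * x) * y⁻¹ := by group
    _ = y * (x * (y⁻¹ * v * y)) * y⁻¹ := by rw [h2]
    _ = y * x * y⁻¹ * v := by group

theorem N_S_le : Subgroup.normalizer (𝐒 : Set G) ≤ NV := by
  intro y hy
  have key : ∀ z ∈ Subgroup.normalizer (𝐒 : Set G), ∀ v ∈ 𝐕, z * v * z⁻¹ ∈ 𝐕 := by
    intro z hz v hv
    refine c.mem_V.mpr ⟨(Subgroup.mem_normalizer_iff.mp hz v).mp (c.V_le hv), fun s hs => ?_⟩
    have h1 := (Subgroup.mem_normalizer_iff''.mp hz s).mp hs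
    calc s * (z * v * z⁻¹) = z * ((z⁻¹ * s * z) * v) * z⁻¹ := by group
      _ = z * (v * (z⁻¹ * s * z)) * z⁻¹ := by rw [c.V_comm hv h1]
      _ = z * v * z⁻¹ * s := by group
  refine Subgroup.mem_normalizer_iff.mpr fun v => ⟨key y hy v, fun hv => ?_⟩
  have := key y⁻¹ (inv_mem hy) _ hv
  simpa [mul_assoc] using this

/-- The centre determined by a Sylow subgroup containing it. -/
theorem V_conj_of_le [Finite G] {k : G} (h : ∀ v ∈ 𝐕, k * v * k⁻¹ ∈ 𝐒) : k ∈ NV :=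
  CfsgA8C.mem_normalizer_of_le fun v hv => c.invol_mem (h v hv) (by
    rw [show k * v * k⁻¹ * (k * v * k⁻¹) = k * (v * v) * k⁻¹ by group, c.V_sq hv]; group)

variable [Finite G]

/-- A 2-group normalizing the centre centralizes it. -/
theorem two_le_CV {R : Subgroup G} (hR : IsPGroup 2 R) (hRN : R ≤ NV) : R ≤ CV := by
  have hp : IsPGroup 2 ↥(R ⊔ 𝐕) := IsPGroup.to_sup_of_normal_right' hR (c.S.2.to_le c.V_le) hRN
  obtain ⟨T, hT⟩ := hp.exists_le_sylow
  obtain ⟨k, hk⟩ := MulAction.exists_smul_eq G T c.S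
  have hin : ∀ x ∈ R ⊔ 𝐕, k * x * k⁻¹ ∈ 𝐒 := fun x hx => by
    rw [← hk, Sylow.coe_subgroup_smul]; exact ⟨x, hT hx, rfl⟩
  have hkN : k ∈ NV := c.V_conj_of_le fun v hv => hin v (Subgroup.mem_sup_right hv)
  intro r hr
  rw [show r = k⁻¹ * (k * r * k⁻¹) * k⁻¹⁻¹ by group]
  exact c.CV_conj (c.S_le_CV (hin r (Subgroup.mem_sup_left hr))) (inv_mem hkN)

theorem two_mem_CV {y : G} {k : ℕ} (hy : y ∈ NV) (h : y ^ 2 ^ k = 1) : y ∈ CV :=
  c.two_le_CV (two_elem_isPGroup h) ((Subgroup.zpowers_le).mpr hy) (Subgroup.mem_zpowers y)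

/-- An element of the normalizer fixing one involution centralizes the centre. -/
theorem fix_one {y : G} (hy : y ∈ NV) {v : G} (hv : v ∈ 𝐕) (hv1 : v ≠ 1) (h : y * v * y⁻¹ = v) : y ∈ CV := by
  obtain ⟨k, m, hm, he, h2, ho⟩ := odd_part y
  refine CfsgA8C.of_two_odd hm he (c.two_mem_CV (Subgroup.pow_mem _ hy m) h2) ?_
  set z := y ^ 2 ^ k with hz
  have hzN : z ∈ NV := Subgroup.pow_mem _ hy _
  have hzv : z * v * z⁻¹ = v := by
    have hy' : y ∈ Subgroup.centralizer ({v} : Set G) :=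
      Subgroup.mem_centralizer_singleton_iff.mpr (mul_inv_eq_iff_eq_mul.mp h)
    exact mul_inv_eq_iff_eq_mul.mpr (Subgroup.mem_centralizer_singleton_iff.mp (Subgroup.pow_mem _ hy' _))
  refine mem_of_sq ho (Subgroup.mem_centralizer_iff.mpr fun w hw => ?_)
  refine (mul_inv_eq_iff_eq_mul.mp ?_).symm
  by_cases hw1 : w = 1
  · subst hw1; group
  by_cases hwv : v = w
  · subst hwv
    rw [show z * z * v * (z * z)⁻¹ = z * (z * v * z⁻¹) * z⁻¹ by group, hzv, hzv]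
  rw [show z * z * w * (z * z)⁻¹ = z * (z * w * z⁻¹) * z⁻¹ by group]
  rcases c.klein hv hw hv1 hw1 hwv (c.conj_V hzN hw) with e | e | e | e
  · exact absurd (conj_eq_one_iff.mp e) hw1
  · exact absurd (mul_left_cancel (mul_right_cancel (e.trans hzv.symm))).symm hwv
  · rw [e, e]
  · rw [e, show z * (v * w) * z⁻¹ = z * v * z⁻¹ * (z * w * z⁻¹) by group, hzv, e, ← mul_assoc, c.V_sq hv, one_mul]

/-- A rotation of the three involutions. -/
structure Rot (n : G) : Prop where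
  mem : n ∈ NV
  odd : Odd (orderOf n)
  not_cent : n ∉ CV

theorem Rot.no_fix {n : G} (hn : c.Rot n) {v : G} (hv : v ∈ 𝐕) (hv1 : v ≠ 1) : n * v * n⁻¹ ≠ v :=
  fun h => hn.not_cent (c.fix_one hn.mem hv hv1 h)

theorem Rot.no_fix2 {n : G} (hn : c.Rot n) {v : G} (hv : v ∈ 𝐕) (hv1 : v ≠ 1) : n * (n * v * n⁻¹) * n⁻¹ ≠ v :=
  fun h => hn.not_cent (mem_of_sq hn.odd (c.fix_one (mul_mem hn.mem hn.mem) hv hv1 (by
    rw [show n * n * v * (n * n)⁻¹ = n * (n * v * n⁻¹) * n⁻¹ by group]; exact h)))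

theorem Rot.cube {n : G} (hn : c.Rot n) {v : G} (hv : v ∈ 𝐕) (hv1 : v ≠ 1) :
    n * (n * v * n⁻¹) * n⁻¹ = v * (n * v * n⁻¹) ∧ n * (n * (n * v * n⁻¹) * n⁻¹) * n⁻¹ = v := by
  set a := n * v * n⁻¹ with ha
  have haV : a ∈ 𝐕 := c.conj_V hn.mem hv
  have ha1 : a ≠ 1 := fun e => hv1 (conj_eq_one_iff.mp e)
  have hva : v ≠ a := fun e => hn.no_fix c hv hv1 e.symm
  set b := n * a * n⁻¹ with hb
  have hbV : b ∈ 𝐕 := c.conj_V hn.mem haV
  have e1 : b = v * a := by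
    rcases c.klein hv haV hv1 ha1 hva hbV with e | e | e | e
    · exact absurd (conj_eq_one_iff.mp e) ha1
    · exact absurd e (hn.no_fix2 c hv hv1)
    · exact absurd e (hn.no_fix c haV ha1)
    · exact e
  refine ⟨e1, ?_⟩
  rcases c.klein hv haV hv1 ha1 hva (c.conj_V hn.mem hbV) with e | e | e | e
  · exact absurd (conj_eq_one_iff.mp e) (fun e0 => ha1 (conj_eq_one_iff.mp e0))
  · exact e
  · exact absurd e (hn.no_fix2 c haV ha1 ∘ fun h => h)
  · exact absurd (e.trans e1.symm) (hn.no_fix c hbV fun e0 => ha1 (conj_eq_one_iff.mp e0))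

theorem Rot.cover {n : G} (hn : c.Rot n) {v w : G} (hv : v ∈ 𝐕) (hv1 : v ≠ 1) (hw : w ∈ 𝐕) (hw1 : w ≠ 1) :
    w = v ∨ w = n * v * n⁻¹ ∨ w = n * (n * v * n⁻¹) * n⁻¹ := by
  rw [(hn.cube c hv hv1).1]
  exact (c.klein hv (c.conj_V hn.mem hv) hv1 (fun e => hv1 (conj_eq_one_iff.mp e)) (fun e => hn.no_fix c hv hv1 e.symm)
    hw).resolve_left hw1

theorem Rot.cube_mem {n : G} (hn : c.Rot n) : n ^ 3 ∈ CV := by
  obtain ⟨v, hv, hv1⟩ := c.exists_ne_one
  refine c.fix_one (Subgroup.pow_mem _ hn.mem 3) hv hv1 ?_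
  conv_rhs => rw [← (hn.cube c hv hv1).2]
  rw [pow_succ, pow_two]
  group

/-- The normalizer of the centre is generated by its centralizer and a rotation. -/
theorem Rot.decomp {n : G} (hn : c.Rot n) {y : G} (hy : y ∈ NV) : ∃ z ∈ CV, ∃ i, i < 3 ∧ y = n ^ i * z := by
  obtain ⟨v, hv, hv1⟩ := c.exists_ne_one
  have key : ∀ i, n ^ i * v * (n ^ i)⁻¹ = y * v * y⁻¹ → (n ^ i)⁻¹ * y ∈ CV := fun i e =>
    c.fix_one (mul_mem (inv_mem (Subgroup.pow_mem _ hn.mem i)) hy) hv hv1 (by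
      calc (n ^ i)⁻¹ * y * v * ((n ^ i)⁻¹ * y)⁻¹ = (n ^ i)⁻¹ * (y * v * y⁻¹) * n ^ i := by group
        _ = v := by rw [← e]; group)
  rcases hn.cover c hv hv1 (c.conj_V hy hv) (fun e => hv1 (conj_eq_one_iff.mp e)) with e | e | e
  · exact ⟨_, key 0 (by rw [pow_zero, e]; group), 0, by norm_num, by group⟩
  · exact ⟨_, key 1 (by rw [pow_one, e]), 1, by norm_num, by group⟩
  · exact ⟨_, key 2 (by rw [pow_two, e]; group), 2, by norm_num, by group⟩

/-! ### Rotations exist in a simple group -/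

variable [IsSimpleGroup G]

include c in
theorem not_isolated {t : G} (ht : t * t = 1) (ht1 : t ≠ 1) : ¬ IsIsolated t := by
  intro hiso
  haveI := Fact.mk Nat.prime_two
  have ho : orderOf t = 2 := orderOf_eq_prime (by rw [pow_two, ht]) ht1
  have hbot : pPrimeCore 2 G = ⊥ := by
    refine (Subgroup.Normal.eq_bot_or_eq_top inferInstance).resolve_right fun e => ?_
    have h := CfsgLib.not_dvd_card_pPrimeCore (G := G) (p := 2)
    rw [e, Subgroup.card_top] at h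
    exact h Nat.prime_two (by rw [← ho]; exact _root_.orderOf_dvd_natCard t)
  have hcent : t ∈ Subgroup.center G := Subgroup.mem_center_iff.mpr fun g => by
    have h := CfsgLib.ZStar.inZStar ho hiso g
    rw [hbot, Subgroup.mem_bot, mul_inv_eq_one] at h
    exact mul_inv_eq_iff_eq_mul.mp h
  rcases (inferInstance : (Subgroup.center G).Normal).eq_bot_or_eq_top with e | e
  · exact ht1 (Subgroup.mem_bot.mp (e ▸ hcent))
  · -- the group would be abelian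
    obtain ⟨s, hs, hsV⟩ : ∃ s ∈ 𝐒, s ∉ 𝐕 := by
      by_contra h
      simp only [not_exists, not_and, not_not] at h
      have := Subgroup.card_le_of_le h
      rw [c.c64, c.card_V] at this
      omega
    exact hsV (c.mem_V.mpr ⟨hs, fun r _ => Subgroup.mem_center_iff.mp (e ▸ Subgroup.mem_top s) r⟩)

/-- Some element of the normalizer of the Sylow subgroup rotates the involutions. -/
theorem exists_rot : ∃ n ∈ Subgroup.normalizer (𝐒 : Set G), c.Rot n := by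
  haveI := Fact.mk Nat.prime_two
  obtain ⟨t, ht, ht1⟩ := c.exists_ne_one
  have hni := c.not_isolated (c.V_sq ht) ht1
  simp only [IsIsolated, not_forall] at hni
  obtain ⟨g, hcg, hne⟩ := hni
  set x := g * t * g⁻¹
  have hxx : x * x = 1 := by
    rw [show x * x = g * (t * t) * g⁻¹ by simp only [x]; group, c.V_sq ht]; group
  set C := Subgroup.centralizer ({t} : Set G)
  have hSC : 𝐒 ≤ C := fun s hs => Subgroup.mem_centralizer_singleton_iff.mpr (c.V_comm ht hs)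
  -- move `x` into the Sylow subgroup inside the centralizer
  have hxC : x ∈ C := Subgroup.mem_centralizer_singleton_iff.mpr hcg.symm
  obtain ⟨T, hT⟩ := ((two_elem_isPGroup (k := 1) (by rw [pow_one, pow_two, hxx]) :
    IsPGroup 2 (zpowers x)).comap_subtype (K := C)).exists_le_sylow
  obtain ⟨⟨k, hk⟩, hkT⟩ := MulAction.exists_smul_eq C T (c.S.subtype hSC)
  have hk1 : k * x * k⁻¹ ∈ 𝐒 := by
    have h : (⟨k, hk⟩ : C) * ⟨x, hxC⟩ * (⟨k, hk⟩ : C)⁻¹ ∈ (c.S.subtype hSC : Subgroup C) := by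
      rw [← hkT, Sylow.coe_subgroup_smul]; exact ⟨_, hT (Subgroup.mem_zpowers x), rfl⟩
    exact h
  have hkt : k * t * k⁻¹ = t := mul_inv_eq_iff_eq_mul.mpr (Subgroup.mem_centralizer_singleton_iff.mp hk)
  set g1 := k * g
  have hg1 : g1 * t * g1⁻¹ = k * x * k⁻¹ := by simp only [g1, x]; group
  have hg1V : g1 * t * g1⁻¹ ∈ 𝐕 := hg1 ▸ c.invol_mem hk1 (by
    rw [show k * x * k⁻¹ * (k * x * k⁻¹) = k * (x * x) * k⁻¹ by group, hxx]; group)
  have hg1ne : g1 * t * g1⁻¹ ≠ t := fun e => hne (by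
    rw [hg1] at e; exact mul_left_cancel (mul_right_cancel (e.trans hkt.symm)))
  -- Burnside
  have hS'C : ∀ s ∈ 𝐒, g1⁻¹ * s * g1 ∈ C := fun s hs => Subgroup.mem_centralizer_singleton_iff.mpr (by
    calc g1⁻¹ * s * g1 * t = g1⁻¹ * (s * (g1 * t * g1⁻¹)) * g1 := by group
      _ = g1⁻¹ * ((g1 * t * g1⁻¹) * s) * g1 := by rw [c.V_comm hg1V hs]
      _ = t * (g1⁻¹ * s * g1) := by group)
  set S' : Sylow 2 G := g1⁻¹ • c.S
  have hS'le : (S' : Subgroup G) ≤ C := by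
    rw [Sylow.coe_subgroup_smul]
    rintro _ ⟨s, hs, rfl⟩
    simpa using hS'C s hs
  obtain ⟨⟨m, hm⟩, hmS⟩ := MulAction.exists_smul_eq C (c.S.subtype hSC) (S'.subtype hS'le)
  set y := g1 * m
  have hyN : y ∈ Subgroup.normalizer (𝐒 : Set G) := by
    refine CfsgA8C.mem_normalizer_of_le fun s hs => ?_
    have h : (⟨m, hm⟩ : C) * ⟨s, hSC hs⟩ * (⟨m, hm⟩ : C)⁻¹ ∈ (S'.subtype hS'le : Subgroup C) := by
      rw [← hmS, Sylow.coe_subgroup_smul]; exact ⟨⟨s, hSC hs⟩, hs, rfl⟩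
    have h' : m * s * m⁻¹ ∈ (S' : Subgroup G) := h
    rw [Sylow.coe_subgroup_smul] at h'
    obtain ⟨r, hr, e⟩ := h'
    have e' : g1⁻¹ * r * g1⁻¹⁻¹ = m * s * m⁻¹ := e
    rw [show y * s * y⁻¹ = g1 * (m * s * m⁻¹) * g1⁻¹ by simp only [y]; group, ← e']
    rw [show g1 * (g1⁻¹ * r * g1⁻¹⁻¹) * g1⁻¹ = r by group]
    exact hr
  have hmt : m * t * m⁻¹ = t := mul_inv_eq_iff_eq_mul.mpr (Subgroup.mem_centralizer_singleton_iff.mp hm)
  have hyt : y * t * y⁻¹ ≠ t := by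
    rw [show y * t * y⁻¹ = g1 * (m * t * m⁻¹) * g1⁻¹ by simp only [y]; group, hmt]; exact hg1ne
  obtain ⟨j, o, ho, he, h2, hodd⟩ := odd_part y
  refine ⟨y ^ 2 ^ j, Subgroup.pow_mem _ hyN _, ⟨Subgroup.pow_mem _ (c.N_S_le hyN) _, hodd, fun hC => hyt ?_⟩⟩
  have hy2 : y ∈ CV := CfsgA8C.of_two_odd ho he (c.two_mem_CV (Subgroup.pow_mem _ (c.N_S_le hyN) o) h2) hC
  rw [← Subgroup.mem_centralizer_iff.mp hy2 t ht, mul_inv_cancel_right]

end Ctx

end CfsgLib.Homogeneous.Unitary
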